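import Mathlib.GroupTheory.GroupAction.MultipleTransitivity
import Mathlib.GroupTheory.PGroup
import Mathlib.Algebra.Group.Subgroup.Basic
import Mathlib.Tactic

/-!
# Normal subgroups of three-fold transitive groups with two colours: the setting
-/

set_option autoImplicit false
set_option linter.unusedSectionVars false

namespace CfsgLib.Perm.ThreeTrans

open MulAction Subgroup

universe u v

variable {G : Type u} [Group G] {X : Type v} [MulAction G X]

/-- The common stabilizer of three points. -/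
abbrev st3 (G : Type u) [Group G] [MulAction G X] (a b c : X) : Subgroup G :=
  stabilizer G a ⊓ stabilizer G b ⊓ stabilizer G c

theorem mem_st3 {a b c : X} {g : G} : g ∈ st3 G a b c ↔ g • a = a ∧ g • b = b ∧ g • c = c := by
  simp [st3, mem_inf, and_assoc]

theorem exists_three (h3 : IsMultiplyPretransitive G X 3) {a b c a' b' c' : X} (hab : a ≠ b)
    (hac : a ≠ c) (hbc : b ≠ c) (hab' : a' ≠ b') (hac' : a' ≠ c') (hbc' : b' ≠ c') :
    ∃ g : G, g • a = a' ∧ g • b = b' ∧ g • c = c' := by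
  let e : Fin 3 ↪ X := ⟨![a, b, c], by
    intro i j h
    fin_cases i <;> fin_cases j <;> simp_all⟩
  let e' : Fin 3 ↪ X := ⟨![a', b', c'], by
    intro i j h
    fin_cases i <;> fin_cases j <;> simp_all⟩
  obtain ⟨g, hg⟩ := h3.exists_smul_eq e e'
  exact ⟨g, DFunLike.congr_fun hg 0, DFunLike.congr_fun hg 1, DFunLike.congr_fun hg 2⟩

theorem map_st3 (g : G) (a b c : X) :
    (st3 G a b c).map (MulAut.conj g).toMonoidHom = st3 G (g • a) (g • b) (g • c) := by
  ext x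
  rw [mem_map_equiv, mem_st3, mem_st3]
  simp only [MulAut.conj_symm_apply, mul_smul, inv_smul_eq_iff]

/-- the sum `p ^ f + 1` over `p + 1` is odd, `p` and `f` odd -/
theorem exists_odd_factor {p f : ℕ} (hp : Odd p) (hf : Odd f) : ∃ r, Odd r ∧ p ^ f + 1 = (p + 1) * r := by
  obtain ⟨k, rfl⟩ := hf
  obtain ⟨i, rfl⟩ := hp
  induction k with
  | zero => exact ⟨1, odd_one, by simp⟩
  | succ k ih =>
    obtain ⟨r, ⟨j, rfl⟩, hr⟩ := ih
    refine ⟨2 * (4 * i ^ 2 * j + 4 * i * j + j + 2 * i ^ 2 + i) + 1, ⟨_, rfl⟩, ?_⟩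
    have h2 : (2 * i + 1) ^ (2 * (k + 1) + 1) = (2 * i + 1) ^ 2 * (2 * i + 1) ^ (2 * k + 1) := by ring
    rw [h2]
    zify at hr ⊢
    linear_combination ((2 * (i : ℤ) + 1) ^ 2) * hr

theorem odd_exp_of_three {p f : ℕ} (h : p ^ f % 4 = 3) : Odd p ∧ Odd f := by
  refine ⟨?_, ?_⟩
  · by_contra he
    obtain ⟨i, rfl⟩ := Nat.not_odd_iff_even.1 he
    rcases f with _ | f
    · simp at h
    · rw [pow_succ, show (i + i) ^ f * (i + i) = 2 * ((i + i) ^ f * i) by ring] at h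
      omega
  · by_contra he
    obtain ⟨i, rfl⟩ := Nat.not_odd_iff_even.1 he
    rw [← two_mul, pow_mul', Nat.pow_mod] at h
    have := Nat.mod_lt (p ^ i) (show 4 > 0 by norm_num)
    interval_cases hm : p ^ i % 4 <;> simp at h

/-- The hypotheses. -/
structure Ctx [Finite G] [Finite X] (L : Subgroup G) (N : X → Subgroup G) : Prop where
  faithful : FaithfulSMul G X
  three : IsMultiplyPretransitive G X 3
  normal : L.Normal
  four : 4 ∣ Nat.card X
  pos : 0 < Nat.card X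
  le : ∀ a, N a ≤ L ⊓ stabilizer G a
  comm : ∀ a, IsMulCommutative (N a)
  conj : ∀ a, ∀ g ∈ stabilizer G a, ∀ x ∈ N a, g * x * g⁻¹ ∈ N a
  reg : ∀ a y z : X, y ≠ a → z ≠ a → ∃! x, x ∈ N a ∧ x • y = z
  odd : ∀ a : X, Odd (Nat.card ↥(L ⊓ stabilizer G a))
  orb : ∀ a b c : X, a ≠ b → a ≠ c → b ≠ c →
    2 * Nat.card (orbit ↥(L ⊓ stabilizer G a ⊓ stabilizer G b) c) + 2 = Nat.card X

variable [Finite G] [Finite X] {L : Subgroup G} {N : X → Subgroup G}

theorem Ctx.exists_three_points (h : Ctx L N) : ∃ a b c : X, a ≠ b ∧ a ≠ c ∧ b ≠ c := by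
  have h4 := Nat.le_of_dvd h.pos h.four
  haveI : Fintype X := Fintype.ofFinite X
  rw [Nat.card_eq_fintype_card] at h4
  obtain ⟨a, b, c, hab, hac, hbc⟩ :=
    Fintype.two_lt_card_iff.1 (show 2 < Fintype.card X by omega)
  exact ⟨a, b, c, hab, hac, hbc⟩

theorem Ctx.mem_stab (h : Ctx L N) {a : X} {x : G} (hx : x ∈ N a) : x • a = a :=
  (mem_inf.1 (h.le a hx)).2

theorem Ctx.mem_L (h : Ctx L N) {a : X} {x : G} (hx : x ∈ N a) : x ∈ L :=
  (mem_inf.1 (h.le a hx)).1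

theorem Ctx.smul_ne (h : Ctx L N) {a b : X} {x : G} (hx : x ∈ N a) (hb : b ≠ a) : x • b ≠ a := fun e =>
  hb (smul_left_cancel x (e.trans (h.mem_stab hx).symm))

theorem Ctx.eq_of_smul (h : Ctx L N) {a b : X} (hb : b ≠ a) {x y : G} (hx : x ∈ N a) (hy : y ∈ N a)
    (e : x • b = y • b) : x = y :=
  (h.reg a b (y • b) hb (h.smul_ne hy hb)).unique ⟨hx, e⟩ ⟨hy, rfl⟩

/-- a translation between two points fixed by `g` commutes with `g` -/
theorem Ctx.conj_eq (h : Ctx L N) {a b : X} (hb : b ≠ a) {g x y : G} (hga : g • a = a) (hgb : g • b = b)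
    (hx : x ∈ N a) (hy : y ∈ N a) (e : g • x • b = y • b) : g * x * g⁻¹ = y := by
  refine h.eq_of_smul hb (h.conj a g hga x hx) hy ?_
  rw [mul_smul, mul_smul, inv_smul_eq_iff.2 hgb.symm, e]

theorem Ctx.comm_of_fixed (h : Ctx L N) {a b : X} (hb : b ≠ a) {g x : G} (hga : g • a = a)
    (hgb : g • b = b) (hx : x ∈ N a) (e : g • x • b = x • b) : g * x = x * g := by
  have := h.conj_eq hb hga hgb hx hx e
  exact mul_inv_eq_iff_eq_mul.1 this

theorem Ctx.exists_translation (h : Ctx L N) {a b c : X} (hb : b ≠ a) (hc : c ≠ a) :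
    ∃ x ∈ N a, x • b = c := by
  obtain ⟨x, ⟨hx, hxc⟩, -⟩ := h.reg a b c hb hc
  exact ⟨x, hx, hxc⟩

theorem Ctx.card_kernel (h : Ctx L N) (a : X) : Nat.card (N a) + 1 = Nat.card X := by
  classical
  obtain ⟨b, hb⟩ : ∃ b, b ≠ a := by
    obtain ⟨x, y, -, hxy, -, -⟩ := h.exists_three_points
    by_cases e : x = a
    · exact ⟨y, fun e' => hxy (e.trans e'.symm)⟩
    · exact ⟨x, e⟩
  let e : N a → {x : X // x ≠ a} := fun x => ⟨(x : G) • b, h.smul_ne x.2 hb⟩
  have he : Function.Bijective e := ⟨fun x y hxy => Subtype.ext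
      (h.eq_of_smul hb x.2 y.2 (congrArg Subtype.val hxy)), fun z => by
      obtain ⟨x, hx, hxz⟩ := h.exists_translation hb z.2
      exact ⟨⟨x, hx⟩, Subtype.ext hxz⟩⟩
  rw [Nat.card_eq_of_bijective e he]
  haveI : Fintype X := Fintype.ofFinite X
  rw [Nat.card_eq_fintype_card, Nat.card_eq_fintype_card, Fintype.card_subtype_compl,
    Fintype.card_subtype_eq]
  have : 0 < Fintype.card X := Fintype.card_pos_iff.2 ⟨a⟩
  omega

/-- the kernels are elementary abelian -/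
theorem Ctx.kernel_pow (h : Ctx L N) (a : X) :
    ∃ p f : ℕ, p.Prime ∧ Odd p ∧ Odd f ∧ Nat.card (N a) = p ^ f ∧ ∀ x ∈ N a, x ^ p = 1 := by
  classical
  obtain ⟨m, hm⟩ := h.four
  have hc := h.card_kernel a
  have hcN : 1 < Nat.card (N a) := by have := h.pos; omega
  obtain ⟨b, hb⟩ : ∃ b, b ≠ a := by
    obtain ⟨x, y, -, hxy, -, -⟩ := h.exists_three_points
    by_cases e : x = a
    · exact ⟨y, fun e' => hxy (e.trans e'.symm)⟩
    · exact ⟨x, e⟩
  have hord : ∀ x ∈ N a, ∀ y ∈ N a, x ≠ 1 → y ≠ 1 → orderOf x = orderOf y := by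
    intro x hx y hy hx1 hy1
    have hxb : x • b ≠ b := fun e => hx1 (h.eq_of_smul hb hx (one_mem _) (by rw [one_smul, e]))
    have hyb : y • b ≠ b := fun e => hy1 (h.eq_of_smul hb hy (one_mem _) (by rw [one_smul, e]))
    obtain ⟨g, hga, hgb, hgc⟩ := exists_three h.three hb.symm (h.smul_ne hx hb).symm hxb.symm
      hb.symm (h.smul_ne hy hb).symm hyb.symm
    rw [← h.conj_eq hb hga hgb hx hy hgc, ← MulAut.conj_apply, MulEquiv.orderOf_eq]
  haveI : Nontrivial (N a) := Finite.one_lt_card_iff_nontrivial.1 hcN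
  obtain ⟨⟨x, hx⟩, hx1⟩ := exists_ne (1 : N a)
  have hx1' : x ≠ 1 := fun e => hx1 (Subtype.ext e)
  set p := (orderOf x).minFac with hp
  have hpp : p.Prime := Nat.minFac_prime (fun e => hx1' (orderOf_eq_one_iff.1 e))
  have hyo : orderOf (x ^ (orderOf x / p)) = p := orderOf_pow_orderOf_div (orderOf_pos x).ne' (Nat.minFac_dvd _)
  have hy1 : x ^ (orderOf x / p) ≠ 1 := fun e => by
    rw [e, orderOf_one] at hyo
    exact hpp.ne_one hyo.symm
  have hexp : ∀ z ∈ N a, z ^ p = 1 := by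
    intro z hz
    by_cases hz1 : z = 1
    · rw [hz1, one_pow]
    · rw [← hyo, ← hord z hz _ (pow_mem hx _) hz1 hy1, pow_orderOf_eq_one]
  haveI := Fact.mk hpp
  obtain ⟨f, hf⟩ := (IsPGroup.iff_card (p := p) (G := N a)).1 fun z => ⟨1, Subtype.ext (by simpa using hexp z z.2)⟩
  obtain ⟨h1, h2⟩ := odd_exp_of_three (p := p) (f := f) (by omega)
  exact ⟨p, f, hpp, h1, h2, hf, hexp⟩

end CfsgLib.Perm.ThreeTrans
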