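import Cfsg.Agent.Lib.Perm.ThreeTrans.Orbits
import Cfsg.Agent.Lib.PGroup.Kulakoff
import Cfsg.Agent.Lib.PGroup.MillerCount

/-!
# At most two orbits on triples when the point stabiliser has order prime to three

Every cyclically ordered triple is a cycle of exactly one element of order three, which forces cyclic Sylow
3-subgroups, and the orbits on triples are the orbits of the centraliser of such an element.
-/

set_option autoImplicit false
set_option linter.style.haveILetI false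

namespace CfsgLib.Perm.ThreeTrans

open MulAction

universe u v

theorem isCyclic_sylow_three (H : Type u) [Group H] [Finite H] (S : Sylow 3 H)
    (h : Nat.card {x : H // orderOf x = 3} % 9 = 2) : IsCyclic (S : Subgroup H) := by
  haveI : Fact (Nat.Prime 3) := ⟨Nat.prime_three⟩
  by_contra hnc
  have h9 : 3 ^ (1 + 1) ∣ Nat.card H := by
    obtain ⟨j, hj⟩ := IsPGroup.iff_card.1 S.isPGroup'
    have hj2 : 2 ≤ j := by
      by_contra hlt
      apply hnc
      interval_cases j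
      · haveI := Subsingleton.intro fun (x y : (S : Subgroup H)) =>
          (Nat.card_eq_one_iff_unique.1 (by rw [hj, pow_zero])).1.elim x y
        exact isCyclic_of_subsingleton
      · exact isCyclic_of_prime_card (p := 3) (by rw [hj, pow_one])
    exact (pow_dvd_pow 3 hj2).trans (hj ▸ (S : Subgroup H).card_subgroup_dvd_card)
  have hk := PGroup.Kulakoff.card_subgroups_add (p := 3) (G := H) 1 h9
  obtain ⟨d, hd⟩ : 3 ∣ Nat.card {C : Subgroup H // IsCyclic C ∧ Nat.card C = 3 ^ (1 + 1)} := by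
    refine PGroup.Kulakoff.prime_dvd_of_pow_dvd_totient_mul (s := 1 + 1) (by omega) ?_
    rw [← PGroup.Miller.card_orderOf_eq_mul]
    exact PGroup.Miller.dvd_card_orderOf_of_sylow (by norm_num) S hnc (by omega)
  have hc : Nat.card {C : Subgroup H // IsCyclic C ∧ Nat.card C = 3} = Nat.card {C : Subgroup H // Nat.card C = 3 ^ 1} :=
    Nat.card_congr (Equiv.subtypeEquivRight fun C => by
      rw [pow_one]
      exact and_iff_right_of_imp fun hC => isCyclic_of_prime_card hC)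
  have ht := PGroup.Miller.card_orderOf_eq_mul H 3
  rw [hc, Nat.totient_prime Nat.prime_three] at ht
  rw [hd, Nat.ModEq] at hk
  rw [ht] at h
  omega

variable {G : Type u} [Group G] [Finite G] {X : Type v} [Fintype X] [MulAction G X] [FaithfulSMul G X]

omit [Fintype X] [FaithfulSMul G X] in
theorem commute_cycle {H : Subgroup G} [H.Normal] {a b c : X} (hab : a ≠ b) (hac : a ≠ c) (hbc : b ≠ c)
    (hNb : HasKernel H b) (hNc : HasKernel H c) (h3H : ¬ 3 ∣ Nat.card ↥(H ⊓ stabilizer G a))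
    {z : G} (hz : z ∈ H) (ho : orderOf z = 3) (hza : z • a = b) (hzb : z • b = c) (hzc : z • c = a)
    {d : G} (hd : d ∈ H) (hda : d • a = a) (hdb : d • b = b) (hdc : d • c = c) : Commute z d := by
  set D := H ⊓ stabilizer G a ⊓ stabilizer G b ⊓ stabilizer G c with hD
  have hmemD : ∀ g, g ∈ D ↔ g ∈ H ∧ g • a = a ∧ g • b = b ∧ g • c = c := fun g => by
    simp only [hD, Subgroup.mem_inf, mem_stabilizer_iff, and_assoc]
  obtain ⟨N, hN, -, hNn, hNr⟩ := hNc
  obtain ⟨N', hN', -, hNn', hNr'⟩ := hNb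
  obtain ⟨v, ⟨hv, hvab⟩, hvu⟩ := hNr a b hac hbc
  have hvc : v • c = c := (hN hv).2
  have hv1 : ∀ g ∈ D, g * v * g⁻¹ = v := fun g hg => by
    obtain ⟨-, ha, hb, hc⟩ := (hmemD g).1 hg
    refine hvu _ ⟨hNn g hc v hv, ?_⟩
    rw [mul_smul, mul_smul, inv_smul_eq_iff.2 ha.symm, hvab, hb]
  have hvb : v • b ≠ b := fun e => hab (MulAction.injective v (hvab.trans e.symm))
  obtain ⟨w, ⟨hw, hwec⟩, hwu⟩ := hNr' (v • b) c hvb hbc.symm
  have hwb : w • b = b := (hN' hw).2
  have hw1 : ∀ g ∈ D, g * w * g⁻¹ = w := fun g hg => by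
    obtain ⟨-, ha, hb, hc⟩ := (hmemD g).1 hg
    refine hwu _ ⟨hNn' g hb w hw, ?_⟩
    have he : g⁻¹ • (v • b) = v • b := by
      rw [inv_smul_eq_iff]
      conv_rhs => rw [← mul_smul, show g * v = v * g by
        have := congrArg (fun q => q * g) (hv1 g hg); simpa using this, mul_smul, hb]
    rw [mul_smul, mul_smul, he, hwec, hc]
  set c0 := w * v
  have hcent : ∀ g ∈ D, g * c0 * g⁻¹ = c0 := fun g hg => by
    rw [show g * (w * v) * g⁻¹ = (g * w * g⁻¹) * (g * v * g⁻¹) by group, hw1 g hg, hv1 g hg]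
  have hcn : c0 ∈ Subgroup.normalizer (D : Set G) :=
    Subgroup.centralizer_le_normalizer _ (Subgroup.mem_centralizer_iff.2 fun g hg => by
      have := congrArg (fun q => q * g) (hcent g hg)
      simpa [mul_assoc] using this)
  have hzn : z ∈ Subgroup.normalizer (D : Set G) := by
    rw [Subgroup.mem_normalizer_iff]
    intro g
    simp only [hmemD, mul_smul, inv_smul_eq_iff.2 hza.symm, inv_smul_eq_iff.2 hzb.symm, inv_smul_eq_iff.2 hzc.symm]
    constructor
    · rintro ⟨h1, h2, h3, h4⟩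
      exact ⟨Subgroup.Normal.conj_mem inferInstance g h1 z, by rw [h4, hzc], by rw [h2, hza], by rw [h3, hzb]⟩
    · rintro ⟨h1, h2, h3, h4⟩
      refine ⟨by simpa [mul_assoc] using Subgroup.Normal.conj_mem (H := H) inferInstance _ h1 z⁻¹, ?_, ?_, ?_⟩
      · exact MulAction.injective z (h3.trans hza.symm)
      · exact MulAction.injective z (h4.trans hzb.symm)
      · exact MulAction.injective z (h2.trans hzc.symm)
  have hy : c0⁻¹ * z ∈ H ⊓ stabilizer G a := by
    refine ⟨H.mul_mem (H.inv_mem (H.mul_mem (hN' hw).1 (hN hv).1)) hz, ?_⟩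
    show (c0⁻¹ * z) • a = a
    rw [mul_smul, hza, inv_smul_eq_iff, mul_smul, hvab, hwb]
  let ρ := D.normalizerMonoidHom
  have hc0 : ρ ⟨c0, hcn⟩ = 1 := by
    refine MulEquiv.ext fun g => Subtype.ext ?_
    show c0 * g.1 * c0⁻¹ = g.1
    have := congrArg (fun q => c0 * q⁻¹) (hcent g.1 g.2)
    have h1 := congrArg (fun q => q * g.1) (hcent g.1 g.2)
    simp only [inv_mul_cancel_right] at h1
    rw [← h1, mul_inv_cancel_right]
  have hρ : ρ ⟨z, hzn⟩ = ρ (⟨c0, hcn⟩⁻¹ * ⟨z, hzn⟩) := by rw [map_mul, map_inv, hc0, inv_one, one_mul]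
  have h1 : orderOf (ρ ⟨z, hzn⟩) ∣ 3 := (orderOf_map_dvd _ _).trans (by rw [Subgroup.orderOf_mk, ho])
  have h2 : orderOf (ρ ⟨z, hzn⟩) ∣ Nat.card ↥(H ⊓ stabilizer G a) := by
    rw [hρ]
    refine (orderOf_map_dvd _ _).trans ?_
    rw [← Subgroup.orderOf_coe]
    exact Subgroup.orderOf_dvd_natCard _ hy
  have h3 : ρ ⟨z, hzn⟩ = 1 := by
    rw [← orderOf_eq_one_iff]
    rcases (Nat.dvd_prime Nat.prime_three).1 h1 with h | h
    · exact h
    · exact absurd (h ▸ h2) h3H
  have h4 := congrArg (fun f : MulAut D => (f ⟨d, (hmemD d).2 ⟨hd, hda, hdb, hdc⟩⟩).1) h3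
  exact mul_inv_eq_iff_eq_mul.1 (h4 : z * d * z⁻¹ = d)

theorem smul_ne_of_order_three {H : Subgroup G} (h3H : ∀ a : X, ¬ 3 ∣ Nat.card ↥(H ⊓ stabilizer G a)) {z : G}
    (hz : z ∈ H) (ho : orderOf z = 3) (a : X) : z • a ≠ a := fun e =>
  h3H a (ho ▸ Subgroup.orderOf_dvd_natCard _ ⟨hz, e⟩)

/-- At most two orbits, when the point stabilisers have order prime to three and abelian regular normal subgroups. -/
theorem numOrb_le_two (h3 : IsMultiplyPretransitive G X 3) (hdvd : 3 ∣ Fintype.card X) (hn : 3 < Fintype.card X)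
    (H : Subgroup G) [H.Normal] (hH : H ≠ ⊥) (hK : ∀ a : X, HasKernel H a)
    (h3H : ∀ a : X, ¬ 3 ∣ Nat.card ↥(H ⊓ stabilizer G a)) : numOrb X H ≤ 2 := by
  classical
  haveI : Fact (Nat.Prime 3) := ⟨Nat.prime_three⟩
  let Cyc := {z : G // z ∈ H ∧ orderOf z = 3}
  have hz3 : ∀ z : Cyc, z.1 ^ 3 = 1 := fun z => by
    have h := pow_orderOf_eq_one z.1
    rwa [z.2.2] at h
  have hcube : ∀ z : Cyc, ∀ x : X, z.1 • z.1 • z.1 • x = x := fun z x => by
    rw [smul_smul, smul_smul, show z.1 * z.1 * z.1 = z.1 ^ 3 by rw [pow_three, mul_assoc], hz3, one_smul]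
  have hne := fun (z : Cyc) => smul_ne_of_order_three h3H z.2.1 z.2.2
  have hne2 : ∀ (z : Cyc) (x : X), x ≠ z.1 • z.1 • x := fun z x e => hne z x <| by
    conv_rhs => rw [← hcube z x]
    rw [← e]
  let Φ : Cyc × X → (Fin 3 ↪ X) := fun p => tri p.2 (p.1.1 • p.2) (p.1.1 • p.1.1 • p.2)
    (hne p.1 _).symm (hne2 _ _) (hne p.1 _).symm
  let cj : G → Cyc → Cyc := fun g z => ⟨g * z.1 * g⁻¹, Subgroup.Normal.conj_mem inferInstance _ z.2.1 g, by
    rw [← MulAut.conj_apply, MulEquiv.orderOf_eq, z.2.2]⟩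
  have hequiv : ∀ (g : G) (z : Cyc) (x : X), Φ (cj g z, g • x) = g • Φ (z, x) := fun g z x => by
    refine Function.Embedding.ext fun i => ?_
    fin_cases i
    · rfl
    · show (g * z.1 * g⁻¹) • g • x = g • z.1 • x
      rw [mul_smul, mul_smul, inv_smul_smul]
    · show (g * z.1 * g⁻¹) • (g * z.1 * g⁻¹) • g • x = g • z.1 • z.1 • x
      simp only [mul_smul, inv_smul_smul]
  have hinj : Function.Injective Φ := by
    rintro ⟨z, x⟩ ⟨z', x'⟩ h
    obtain ⟨rfl, h1, h2⟩ := tri_inj h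
    dsimp only at h1 h2
    have e1 : z'.1 • x = z.1 • x := h1.symm
    have e2 : z'.1 • z.1 • x = z.1 • z.1 • x := by rw [h1]; exact (h2.symm.trans (by rw [h1]))
    have e3 : z'.1 • z.1 • z.1 • x = x := by
      rw [h2]; exact hcube z' x
    set d := z.1⁻¹ * z'.1
    have hdH : d ∈ H := mul_mem (inv_mem z.2.1) z'.2.1
    have hd1 : d • x = x := by rw [mul_smul, e1, inv_smul_smul]
    have hd2 : d • z.1 • x = z.1 • x := by rw [mul_smul, e2, inv_smul_smul]
    have hd3 : d • z.1 • z.1 • x = z.1 • z.1 • x := by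
      rw [mul_smul, e3, inv_smul_eq_iff, hcube]
    have hcomm := commute_cycle (hne z _).symm (hne2 z x) (hne z _).symm (hK _) (hK _) (h3H x) z.2.1 z.2.2
      rfl rfl (hcube z x) hdH hd1 hd2 hd3
    have hd : d ^ 3 = 1 := by
      have h5 := hcomm.mul_pow 3
      rw [mul_inv_cancel_left, hz3, hz3, one_mul] at h5
      exact h5.symm
    have : d = 1 := by
      by_contra hd0
      exact h3H x (orderOf_eq_prime hd hd0 ▸ Subgroup.orderOf_dvd_natCard _ ⟨hdH, hd1⟩)
    exact Prod.ext (Subtype.ext (inv_mul_eq_one.1 this)) rfl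
  haveI h2 := two_trans h3 hdvd hn H hH
  haveI : IsPretransitive H X := isPretransitive_of_is_two_pretransitive
  obtain ⟨a₀⟩ : Nonempty X := Fintype.card_pos_iff.1 (by omega)
  obtain ⟨z0, hz0⟩ : ∃ z0 : H, orderOf z0 = 3 := exists_prime_orderOf_dvd_card' 3 (hdvd.trans (by
    rw [← Nat.card_eq_fintype_card, ← index_stabilizer_of_transitive H a₀]
    exact (stabilizer H a₀).index_dvd_card))
  let y : Cyc := ⟨z0, z0.2, by rw [Subgroup.orderOf_coe, hz0]⟩
  let yi : Cyc := ⟨(y.1)⁻¹, inv_mem y.2.1, by rw [orderOf_inv, y.2.2]⟩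
  have hsurj : Function.Surjective Φ := fun t => by
    obtain ⟨g, hg⟩ := triple_trans h3 (Φ (y, a₀)) t
    exact ⟨(cj g y, g • a₀), (hequiv g y a₀).trans hg⟩
  -- the number of elements of order three
  have hcount : Nat.card {x : H // orderOf x = 3} = (Fintype.card X - 1) * (Fintype.card X - 2) := by
    have e : Nat.card Cyc = Nat.card {x : H // orderOf x = 3} := Nat.card_congr
      { toFun := fun z => ⟨⟨z.1, z.2.1⟩, by rw [Subgroup.orderOf_mk, z.2.2]⟩
        invFun := fun x => ⟨x.1.1, x.1.2, by rw [Subgroup.orderOf_coe, x.2]⟩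
        left_inv := fun _ => rfl
        right_inv := fun _ => rfl }
    have h := Nat.card_congr (Equiv.ofBijective Φ ⟨hinj, hsurj⟩)
    rw [Nat.card_prod, card_triples, e, Nat.card_eq_fintype_card (α := X), mul_assoc] at h
    exact Nat.eq_of_mul_eq_mul_left (show 0 < Fintype.card X by omega) (by rw [← h, mul_comm])
  have hmod : Nat.card {x : H // orderOf x = 3} % 9 = 2 := by
    rw [hcount, Nat.mul_mod]
    have : Fintype.card X % 9 = 0 ∨ Fintype.card X % 9 = 3 ∨ Fintype.card X % 9 = 6 := by omega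
    rcases this with e | e | e
    · rw [show (Fintype.card X - 1) % 9 = 8 by omega, show (Fintype.card X - 2) % 9 = 7 by omega]
    · rw [show (Fintype.card X - 1) % 9 = 2 by omega, show (Fintype.card X - 2) % 9 = 1 by omega]
    · rw [show (Fintype.card X - 1) % 9 = 5 by omega, show (Fintype.card X - 2) % 9 = 4 by omega]
  -- every element of order three is conjugate to the chosen one or to its inverse
  have hconj : ∀ z : Cyc, ∃ h ∈ H, z = cj h y ∨ z = cj h yi := by
    intro z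
    have hp : ∀ w : H, orderOf w = 3 → IsPGroup 3 (Subgroup.zpowers w) := fun w hw =>
      IsPGroup.of_card (n := 1) (by rw [Nat.card_zpowers, hw, pow_one])
    let z' : H := ⟨z.1, z.2.1⟩
    have hz' : orderOf z' = 3 := by rw [Subgroup.orderOf_mk, z.2.2]
    obtain ⟨R, hR⟩ := (hp z0 hz0).exists_le_sylow
    obtain ⟨R', hR'⟩ := (hp z' hz').exists_le_sylow
    obtain ⟨h, hh⟩ := exists_smul_eq H R R'
    haveI := isCyclic_sylow_three H R hmod
    have hzR : h⁻¹ * z' * h ∈ (R : Subgroup H) := by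
      have h1 : z' ∈ (R' : Subgroup H) := hR' (Subgroup.mem_zpowers z')
      rw [← hh] at h1
      obtain ⟨r, hr, hrz⟩ := h1
      have e : h * r * h⁻¹ = z' := hrz
      rw [← e, show h⁻¹ * (h * r * h⁻¹) * h = r by group]
      exact hr
    have ho : orderOf (h⁻¹ * z' * h) = 3 := by
      rw [show h⁻¹ * z' * h = MulAut.conj h⁻¹ z' by simp, MulEquiv.orderOf_eq, hz']
    have heq := PGroup.Kulakoff.eq_of_card_eq (G := (R : Subgroup H))
      (H := Subgroup.zpowers ⟨z0, hR (Subgroup.mem_zpowers z0)⟩) (K := Subgroup.zpowers ⟨h⁻¹ * z' * h, hzR⟩)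
      (by
        rw [Nat.card_zpowers, Nat.card_zpowers]
        exact (Subgroup.orderOf_mk _ _).trans ((hz0.trans ho.symm).trans (Subgroup.orderOf_mk _ _).symm))
    have h1 : (⟨h⁻¹ * z' * h, hzR⟩ : (R : Subgroup H)) ∈ Subgroup.zpowers ⟨z0, hR (Subgroup.mem_zpowers z0)⟩ :=
      heq ▸ Subgroup.mem_zpowers _
    obtain ⟨i, hi⟩ := h1
    have hi' : (z0 : G) ^ i = (h : G)⁻¹ * z.1 * h := congrArg (fun q : (R : Subgroup H) => ((q : H) : G)) hi
    have hi3 : (z0 : G) ^ i = (z0 : G) ^ (i % 3) := by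
      rw [← zpow_mod_orderOf, show orderOf (z0 : G) = 3 from y.2.2]; rfl
    refine ⟨h, h.2, ?_⟩
    have key : z.1 = h * (z0 : G) ^ (i % 3) * (h : G)⁻¹ := by rw [← hi3, hi']; group
    have h0 : i % 3 = 0 ∨ i % 3 = 1 ∨ i % 3 = 2 := by omega
    rcases h0 with e | e | e <;> rw [e] at key
    · rw [zpow_zero, mul_one, mul_inv_cancel] at key
      exact absurd (key ▸ z.2.2) (by rw [orderOf_one]; norm_num)
    · exact Or.inl (Subtype.ext (by rw [zpow_one] at key; exact key))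
    · refine Or.inr (Subtype.ext (key.trans ?_))
      show _ = (h : G) * (z0 : G)⁻¹ * (h : G)⁻¹
      have e3 : (z0 : G) ^ (2 : ℤ) = (z0 : G)⁻¹ := by
        refine eq_inv_of_mul_eq_one_left ?_
        rw [zpow_ofNat, ← pow_succ]
        exact hz3 y
      rw [e3]
  -- orbits of the centraliser
  let CG := Subgroup.centralizer ({y.1} : Set G)
  let C : Subgroup CG := H.subgroupOf CG
  have hfix : ∀ g : G, g ∈ CG ↔ cj g y = y := fun g => by
    rw [Subgroup.mem_centralizer_singleton_iff, Subtype.ext_iff]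
    exact ⟨fun e => mul_inv_eq_iff_eq_mul.2 e, fun e => mul_inv_eq_iff_eq_mul.1 e⟩
  have hfixi : ∀ g : G, g ∈ CG → cj g yi = yi := fun g hg => Subtype.ext (by
    have h := congrArg (fun q : Cyc => (q.1)⁻¹) ((hfix g).1 hg)
    simpa [cj, yi, mul_inv_rev, mul_assoc] using h)
  have hs := card_quotient_mul (A := CG) (Y := X) (fun a a' => by
    obtain ⟨g, hg⟩ := triple_trans h3 (Φ (y, a)) (Φ (y, a'))
    rw [← hequiv] at hg
    obtain ⟨e1, e2⟩ := Prod.ext_iff.1 (hinj hg)
    exact ⟨⟨g, (hfix g).2 e1⟩, e2⟩) C a₀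
  set s := Nat.card (orbitRel.Quotient C X)
  have hsdvd : s ∣ Fintype.card X := by rw [← Nat.card_eq_fintype_card, ← hs]; exact dvd_mul_right _ _
  obtain ⟨a, b, c, hab, hac, hbc⟩ := Fintype.two_lt_card_iff.1 (show 2 < Fintype.card X by omega)
  have hkdvd : numOrb X H ∣ Fintype.card X - 2 := by
    rw [show Fintype.card X - 2 = _ from (Nat.sub_eq_of_eq_add (numOrb_mul h3 hdvd hn H hH hab hac hbc).symm)]
    exact dvd_mul_right _ _
  -- the map from the centraliser orbits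
  have hrel : ∀ z : Cyc, (∀ g ∈ CG, cj g z = z) → ∀ x x', orbitRel C X x x' → orbitRel H (Fin 3 ↪ X) (Φ (z, x)) (Φ (z, x')) := by
    rintro z hz x x' ⟨k, rfl⟩
    refine ⟨⟨((k : CG) : G), k.2⟩, ?_⟩
    show ((k : CG) : G) • Φ (z, x') = Φ (z, ((k : CG) : G) • x')
    rw [← hequiv, hz _ (k : CG).2]
  let f : orbitRel.Quotient C X → orbitRel.Quotient H (Fin 3 ↪ X) :=
    Quotient.map (fun x => Φ (y, x)) fun x x' h => hrel y (fun g hg => (hfix g).1 hg) x x' h
  let f' : orbitRel.Quotient C X → orbitRel.Quotient H (Fin 3 ↪ X) :=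
    Quotient.map (fun x => Φ (yi, x)) fun x x' h => hrel yi hfixi x x' h
  have horb : ∀ (z z' : Cyc) (x x' : X), orbitRel H (Fin 3 ↪ X) (Φ (z, x)) (Φ (z', x')) →
      ∃ h ∈ H, cj h z' = z ∧ h • x' = x := by
    rintro z z' x x' ⟨h, hh⟩
    have e : Φ (cj h z', (h : G) • x') = Φ (z, x) := (hequiv _ _ _).trans hh
    exact ⟨h, h.2, (Prod.ext_iff.1 (hinj e)).1, (Prod.ext_iff.1 (hinj e)).2⟩
  have hfi : Function.Injective f := by
    rintro ⟨x⟩ ⟨x'⟩ e
    obtain ⟨h, hh, h1, h2'⟩ := horb _ _ _ _ (Quotient.exact e)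
    exact Quotient.sound ⟨⟨⟨h, (hfix h).2 h1⟩, hh⟩, h2'⟩
  have hfi' : Function.Injective f' := by
    rintro ⟨x⟩ ⟨x'⟩ e
    obtain ⟨h, hh, h1, h2'⟩ := horb _ _ _ _ (Quotient.exact e)
    have h3' : cj h y = y := Subtype.ext (by
      have h4 := congrArg (fun q : Cyc => (q.1)⁻¹) h1
      simpa [cj, yi, mul_inv_rev, mul_assoc] using h4)
    exact Quotient.sound ⟨⟨⟨h, (hfix h).2 h3'⟩, hh⟩, h2'⟩
  have hcover : ∀ q, (∃ p, f p = q) ∨ ∃ p, f' p = q := by
    rintro ⟨t⟩
    obtain ⟨⟨z, x⟩, rfl⟩ := hsurj t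
    obtain ⟨h, hh, rfl | rfl⟩ := hconj z
    · refine Or.inl ⟨Quotient.mk _ (h⁻¹ • x), Quotient.sound ⟨⟨h⁻¹, inv_mem hh⟩, ?_⟩⟩
      show h⁻¹ • Φ (cj h y, x) = Φ (y, h⁻¹ • x)
      rw [← hequiv]
      exact congrArg (fun q => Φ (q, h⁻¹ • x)) (Subtype.ext (by simp [cj, mul_assoc]))
    · refine Or.inr ⟨Quotient.mk _ (h⁻¹ • x), Quotient.sound ⟨⟨h⁻¹, inv_mem hh⟩, ?_⟩⟩
      show h⁻¹ • Φ (cj h yi, x) = Φ (yi, h⁻¹ • x)
      rw [← hequiv]
      exact congrArg (fun q => Φ (q, h⁻¹ • x)) (Subtype.ext (by simp [cj, mul_assoc]))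
  by_cases hinv : ∃ h ∈ H, cj h y = yi
  · obtain ⟨h, hh, hyi⟩ := hinv
    have hk : numOrb X H = s := by
      refine (Nat.card_eq_of_bijective f ⟨hfi, fun q => ?_⟩).symm
      rcases hcover q with ⟨p, hp⟩ | ⟨p, rfl⟩
      · exact ⟨p, hp⟩
      induction p using Quotient.inductionOn with
      | _ x =>
        refine ⟨Quotient.mk _ (h⁻¹ • x), Quotient.sound ⟨⟨h⁻¹, inv_mem hh⟩, ?_⟩⟩
        show h⁻¹ • Φ (yi, x) = Φ (y, h⁻¹ • x)
        rw [← hyi, ← hequiv]
        exact congrArg (fun q => Φ (q, h⁻¹ • x)) (Subtype.ext (by simp [cj, mul_assoc]))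
    rw [hk] at hkdvd ⊢
    have h2 : s ∣ 2 := (Nat.dvd_add_right hkdvd).1 (by rwa [Nat.sub_add_cancel (by omega)])
    exact Nat.le_of_dvd two_pos h2
  · have hk : numOrb X H = 2 * s := by
      refine (Nat.card_eq_of_bijective (Sum.elim f f') ⟨?_, fun q => ?_⟩).symm.trans
        (by rw [Nat.card_sum, two_mul])
      · refine hfi.sumElim hfi' fun p p' e => ?_
        induction p using Quotient.inductionOn with
        | _ x =>
          induction p' using Quotient.inductionOn with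
          | _ x' =>
            obtain ⟨h, hh, h1, -⟩ := horb _ _ _ _ (Quotient.exact e)
            refine hinv ⟨h⁻¹, inv_mem hh, ?_⟩
            rw [← h1]
            exact Subtype.ext (by simp [cj, mul_assoc])
      · rcases hcover q with ⟨p, hp⟩ | ⟨p, hp⟩
        exacts [⟨Sum.inl p, hp⟩, ⟨Sum.inr p, hp⟩]
    rw [hk] at hkdvd ⊢
    have h2 : s ∣ 2 := (Nat.dvd_add_right ((dvd_mul_left s 2).trans hkdvd)).1
      (by rwa [Nat.sub_add_cancel (by omega)])
    rcases (Nat.dvd_prime Nat.prime_two).1 h2 with e | e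
    · rw [e]
    exfalso
    rw [e] at hkdvd
    obtain ⟨t, htH, ht, c, htc⟩ := exists_fixed_invol h3 hdvd hn (by omega) H hH
    obtain ⟨a, hta⟩ : ∃ a, t • a ≠ a := not_forall.1 fun hall => by
      have h1 : t = 1 := eq_of_smul_eq_smul (α := X) fun x => by rw [hall x, one_smul]
      rw [h1, orderOf_one] at ht
      norm_num at ht
    have htt : ∀ x : X, t • t • x = x := fun x => by
      rw [smul_smul, ← pow_two, ← ht, pow_orderOf_eq_one, one_smul]
    have hac : a ≠ c := fun e => hta (by rw [e]; exact htc)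
    have hbc : t • a ≠ c := fun e => hac (MulAction.injective t (e.trans htc.symm))
    obtain ⟨⟨z, x⟩, hzx⟩ := hsurj (tri a (t • a) c hta.symm hac hbc)
    obtain ⟨rfl, hzb, hzc⟩ := tri_inj hzx
    dsimp only at hzb hzc hac hbc hta
    have hzc' : z.1 • t • x = c := by rw [← hzb]; exact hzc
    have hzc2 : z.1 • c = x := by rw [← hzc']; conv_rhs => rw [← hcube z x]; rw [hzb]
    -- inversion
    have hinv' : cj t z = ⟨z.1⁻¹, inv_mem z.2.1, by rw [orderOf_inv, z.2.2]⟩ := by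
      refine (Prod.ext_iff.1 (hinj (a₁ := (cj t z, t • x)) (a₂ := (_, t • x)) ?_)).1
      refine Function.Embedding.ext fun i => ?_
      have e1 : z.1⁻¹ • t • x = x := by rw [inv_smul_eq_iff, hzb]
      have e2 : z.1⁻¹ • x = c := by rw [inv_smul_eq_iff, hzc2]
      have f1 : (t * z.1 * t⁻¹) • t • x = x := by
        rw [mul_smul, mul_smul, inv_smul_smul, hzb, htt]
      have f2 : (t * z.1 * t⁻¹) • x = c := by
        rw [mul_smul, mul_smul, show t⁻¹ • x = t • x by rw [inv_smul_eq_iff, htt], hzc', htc]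
      fin_cases i
      · rfl
      · exact f1.trans e1.symm
      · show (t * z.1 * t⁻¹) • (t * z.1 * t⁻¹) • t • x = z.1⁻¹ • z.1⁻¹ • t • x
        rw [f1, f2, e1, e2]
    obtain ⟨h, hh, e | e⟩ := hconj z
    · refine hinv ⟨h⁻¹ * t * h, mul_mem (mul_mem (inv_mem hh) htH) hh, Subtype.ext ?_⟩
      have h4 := congrArg (fun q : Cyc => h⁻¹ * q.1 * h) hinv'
      simp only [e, cj] at h4
      simpa [cj, yi, mul_assoc, mul_inv_rev] using h4
    · refine hinv ⟨h⁻¹ * t * h, mul_mem (mul_mem (inv_mem hh) htH) hh, Subtype.ext ?_⟩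
      have h4 := congrArg (fun q : Cyc => (h⁻¹ * q.1 * h)⁻¹) hinv'
      simp only [e, cj, yi] at h4
      simpa [cj, yi, mul_assoc, mul_inv_rev] using h4

end CfsgLib.Perm.ThreeTrans
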