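import Cfsg.Agent.Lib.GW.QGroupQuot
import Cfsg.Agent.Lib.GW.Perfect
import Cfsg.Agent.Lib.Invol.SylowGLTwo
import Mathlib.LinearAlgebra.Matrix.GeneralLinearGroup.Projective
import Mathlib.GroupTheory.QuotientGroup.Basic

/-!
# The Sylow 2-subgroups of `PGL(2, q)`, `q ≡ 3 (mod 4)`, are dihedral
-/

set_option autoImplicit false

namespace CfsgLib.Perm.ThreeTrans

open Subgroup Matrix

theorem dihTwo_congr {X Y : Type*} [Group X] [Finite X] [Group Y] [Finite Y] (e : X ≃* Y)
    (h : CfsgLib.GW.DihTwo X) : CfsgLib.GW.DihTwo Y := by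
  haveI : Fact (Nat.Prime 2) := ⟨Nat.prime_two⟩
  obtain ⟨S⟩ : Nonempty (Sylow 2 X) := inferInstance
  obtain ⟨n, hn, ⟨f⟩⟩ := h S
  refine CfsgLib.GW.dihTwo_of_sylow (S.mapSurjective (f := e.toMonoidHom) e.surjective) hn ?_
  exact ((MulEquiv.subgroupCongr (Sylow.coe_mapSurjective (f := e.toMonoidHom) e.surjective S)).trans
    ((S : Subgroup X).equivMapOfInjective e.toMonoidHom e.injective).symm).trans f

/-- the projective group of dimension two over a field of order `3 (mod 4)` -/
theorem dihTwo_pgl {F : Type*} [Field F] [Fintype F] (h3 : Fintype.card F % 4 = 3) :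
    CfsgLib.GW.DihTwo (GL (Fin 2) F ⧸ center (GL (Fin 2) F)) := by
  classical
  haveI : Fact (Nat.Prime 2) := ⟨Nat.prime_two⟩
  obtain ⟨S⟩ : Nonempty (Sylow 2 (GL (Fin 2) F)) := inferInstance
  have hq := CfsgLib.Invol.isQuasiDihedral_GL_two S h3
  -- the scalar `-1`
  set e : GL (Fin 2) F := Matrix.GeneralLinearGroup.scalar (Fin 2) (-1 : Fˣ) with he
  have he2 : e * e = 1 := by rw [he, ← map_mul]; simp
  have hec : e ∈ center (GL (Fin 2) F) := by
    rw [Matrix.GeneralLinearGroup.center_eq_range_scalar]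
    exact ⟨_, rfl⟩
  have hne : (-1 : F) ≠ 1 := by
    intro h
    have h2 : ((2 : ℕ) : F) = 0 := by push_cast; linear_combination -h
    obtain ⟨p, hp⟩ := CharP.exists F
    haveI : Fact p.Prime := ⟨CharP.char_is_prime F p⟩
    have hp2 : p = 2 := (Nat.prime_dvd_prime_iff_eq Fact.out Nat.prime_two).1
      ((CharP.cast_eq_zero_iff F p 2).1 h2)
    obtain ⟨n, -, hn⟩ := FiniteField.card F p
    rw [hn, hp2] at h3
    obtain ⟨k, hk⟩ : ∃ k, (n : ℕ) = k + 1 := ⟨(n : ℕ) - 1, by have := n.pos; omega⟩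
    rw [hk, pow_succ] at h3
    omega
  have he1 : e ≠ 1 := by
    intro h
    have := congrArg (fun g : GL (Fin 2) F => (g : Matrix (Fin 2) (Fin 2) F) 0 0) h
    simp [he] at this
    exact hne this
  have heo : orderOf e = 2 := orderOf_eq_prime (by rw [pow_two]; exact he2) he1
  have heS : e ∈ (S : Subgroup (GL (Fin 2) F)) := by
    haveI : (zpowers e).Normal := ⟨fun x hx g => by
      have hxc : x ∈ center (GL (Fin 2) F) := (zpowers_le.2 hec) hx
      rw [mem_center_iff.1 hxc g, mul_assoc, mul_inv_cancel, mul_one]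
      exact hx⟩
    exact (IsPGroup.of_card (n := 1) (by rw [Nat.card_zpowers, heo, pow_one])).le_sylow_of_normal S
      (mem_zpowers e)
  set Z : Subgroup (GL (Fin 2) F) := zpowers e with hZdef
  haveI hZn : Z.Normal := ⟨fun x hx g => by
    have hxc : x ∈ center (GL (Fin 2) F) := (zpowers_le.2 hec) hx
    rw [mem_center_iff.1 hxc g, mul_assoc, mul_inv_cancel, mul_one]
    exact hx⟩
  -- it is the centre of the Sylow subgroup
  obtain ⟨k, a, b, -, -, Q⟩ := CfsgLib.Invol.exists_qdFrame hq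
  have hcard : Nat.card (CfsgLib.Invol.centerG S) = 2 := by
    rw [CfsgLib.Invol.centerG, card_map_of_injective (subtype_injective _), Q.card_center]
  have hZ : Z = CfsgLib.Invol.centerG S := by
    refine eq_of_le_of_card_ge (zpowers_le.2 ?_) (by rw [hcard, Nat.card_zpowers, heo])
    exact ⟨⟨e, heS⟩, mem_center_iff.2 fun s => Subtype.ext (mem_center_iff.1 hec s), rfl⟩
  obtain ⟨-, -, j, hj, hT⟩ := CfsgLib.GW.dihedral_quot_qd S hq Z hZ
  obtain ⟨T⟩ : Nonempty (Sylow 2 (GL (Fin 2) F ⧸ Z)) := inferInstance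
  have hD : CfsgLib.GW.DihTwo (GL (Fin 2) F ⧸ Z) := CfsgLib.GW.dihTwo_of_sylow T
    ((Nat.le_self_pow (by omega) 2)) (hT T).some
  have hle : Z ≤ center (GL (Fin 2) F) := zpowers_le.2 hec
  refine dihTwo_congr (QuotientGroup.quotientQuotientEquivQuotient Z _ hle)
    (CfsgLib.GW.dihTwo_quotient hD _ ?_)
  intro h2
  -- the scalars modulo `-1` have odd order
  have h1 : Nat.card (center (GL (Fin 2) F)) = Fintype.card F - 1 := by
    rw [Matrix.GeneralLinearGroup.center_eq_range_scalar,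
      Nat.card_congr (MonoidHom.ofInjective ?_).toEquiv.symm, Nat.card_units, Nat.card_eq_fintype_card]
    intro u v huv
    have := congrArg (fun g : GL (Fin 2) F => (g : Matrix (Fin 2) (Fin 2) F) 0 0) huv
    simpa [Units.ext_iff] using this
  have h4 : Nat.card ((center (GL (Fin 2) F)).map (QuotientGroup.mk' Z)) * 2 = Fintype.card F - 1 := by
    have h5 := ((QuotientGroup.mk' Z).subgroupMap (center (GL (Fin 2) F))).ker.card_mul_index
    rw [Subgroup.index_ker, MonoidHom.range_eq_top.2 (MonoidHom.subgroupMap_surjective _ _), card_top, h1] at h5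
    rw [← h5, mul_comm]
    congr 1
    refine Eq.trans (by rw [Nat.card_zpowers, heo] : 2 = Nat.card Z) ?_
    exact Nat.card_congr
      { toFun := fun z => ⟨⟨z.1, hle z.2⟩, MonoidHom.mem_ker.2 (Subtype.ext ((QuotientGroup.eq_one_iff _).2 z.2))⟩
        invFun := fun x => ⟨x.1.1, (QuotientGroup.eq_one_iff _).1 (congrArg Subtype.val (MonoidHom.mem_ker.1 x.2))⟩
        left_inv := fun z => rfl
        right_inv := fun x => rfl }
  omega

end CfsgLib.Perm.ThreeTrans
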