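import Cfsg.Agent.Lib.Perm.ThreeTrans.Basic
import Cfsg.Agent.Lib.Perm.ThreeTrans.PGLDih
import Cfsg.Agent.Lib.Invol.RankOneInter.QuatFactor
import Cfsg.Agent.S0730

/-!
# The fixed points of a three-point stabilizer

The normalizer of a three-point stabilizer acts on its fixed points as `PGL(2, q₀)` with `q₀` an odd power of
the same prime, so the Sylow 2-subgroups of `L` are dihedral.
-/

set_option autoImplicit false
set_option linter.unusedSectionVars false

namespace CfsgLib.Perm.ThreeTrans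

open MulAction Subgroup Matrix

universe u v

variable {G : Type u} [Group G] [Finite G] {X : Type v} [MulAction G X] [Finite X]
  {L : Subgroup G} {N : X → Subgroup G}

theorem Ctx.transitive (h : Ctx L N) (x y : X) : ∃ g ∈ L, g • x = y := by
  obtain ⟨a, b, c, hab, hac, hbc⟩ := h.exists_three_points
  obtain ⟨z, hzx, hzy⟩ : ∃ z, x ≠ z ∧ y ≠ z := by
    by_cases h1 : x = a ∨ y = a
    · by_cases h2 : x = b ∨ y = b
      · exact ⟨c, by rcases h1 with rfl | rfl <;> rcases h2 with rfl | rfl <;> simp_all,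
          by rcases h1 with rfl | rfl <;> rcases h2 with rfl | rfl <;> simp_all⟩
      · exact ⟨b, fun e => h2 (Or.inl e), fun e => h2 (Or.inr e)⟩
    · exact ⟨a, fun e => h1 (Or.inl e), fun e => h1 (Or.inr e)⟩
  obtain ⟨g, hg, hgy⟩ := h.exists_translation hzx hzy
  exact ⟨g, h.mem_L hg, hgy⟩

theorem Ctx.card_L (h : Ctx L N) (a : X) : Nat.card L = Nat.card X * Nat.card ↥(L ⊓ stabilizer G a) := by
  have h1 := (stabilizer (↥L) a).card_mul_index
  rw [MulAction.index_stabilizer, ← Nat.card_coe_set_eq] at h1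
  have h2 : Nat.card (orbit (↥L) a) = Nat.card X := by
    refine Nat.card_congr (Equiv.subtypeUnivEquiv fun y => ?_)
    obtain ⟨g, hg, hgy⟩ := h.transitive a y
    exact ⟨⟨g, hg⟩, hgy⟩
  have h3 : Nat.card (stabilizer (↥L) a) = Nat.card ↥(L ⊓ stabilizer G a) :=
    Nat.card_congr
      { toFun := fun g => ⟨(g.1 : G), g.1.2, g.2⟩
        invFun := fun g => ⟨⟨g.1, g.2.1⟩, g.2.2⟩
        left_inv := fun _ => rfl
        right_inv := fun _ => rfl }
  rw [h2, h3] at h1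
  rw [← h1, mul_comm]

theorem Ctx.card_stab (h : Ctx L N) {a b : X} (hb : b ≠ a) :
    Nat.card ↥(L ⊓ stabilizer G a) =
      Nat.card (N a) * Nat.card ↥(L ⊓ stabilizer G a ⊓ stabilizer G b) := by
  rw [← Nat.card_prod]
  refine (Nat.card_eq_of_bijective (fun p : N a × ↥(L ⊓ stabilizer G a ⊓ stabilizer G b) =>
    (⟨(p.1 : G) * p.2, mul_mem (h.le a p.1.2) (mem_inf.1 p.2.2).1⟩ : ↥(L ⊓ stabilizer G a))) ⟨?_, ?_⟩).symm
  · rintro ⟨x, k⟩ ⟨y, l⟩ e
    have e' : (x : G) * k = y * l := congrArg Subtype.val e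
    have hk : (k : G) • b = b := (mem_inf.1 k.2).2
    have hl : (l : G) • b = b := (mem_inf.1 l.2).2
    have hxy : x = y := Subtype.ext (h.eq_of_smul hb x.2 y.2 (by
      have := congrArg (fun g : G => g • b) e'
      simpa only [mul_smul, hk, hl] using this))
    subst hxy
    rw [Subtype.ext (mul_left_cancel e') ]
  · rintro ⟨g, hg⟩
    obtain ⟨x, hx, hxg⟩ := h.exists_translation (c := g • b) hb
      (fun e => hb (smul_left_cancel g (e.trans (mem_inf.1 hg).2.symm)))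
    refine ⟨⟨⟨x, hx⟩, ⟨x⁻¹ * g, mem_inf.2 ⟨mul_mem (inv_mem (h.le a hx)) hg, ?_⟩⟩⟩,
      Subtype.ext (mul_inv_cancel_left x g)⟩
    show (x⁻¹ * g) • b = b
    rw [mul_smul, inv_smul_eq_iff, hxg]

theorem Ctx.orbit_dvd (a b c : X) :
    Nat.card (orbit ↥(L ⊓ stabilizer G a ⊓ stabilizer G b) c) ∣
      Nat.card ↥(L ⊓ stabilizer G a ⊓ stabilizer G b) := by
  rw [Nat.card_coe_set_eq, ← MulAction.index_stabilizer]
  exact Subgroup.index_dvd_card _

/-- the fixed points of a three-point stabilizer -/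
def fixSet (G : Type u) [Group G] [MulAction G X] (a b c : X) : Set X :=
  {x | ∀ u ∈ st3 G a b c, u • x = x}

theorem mem_fixSet {a b c x : X} : x ∈ fixSet G a b c ↔ ∀ u ∈ st3 G a b c, u • x = x := Iff.rfl

section Fixed

variable {a b c : X}

theorem Ctx.st3_eq (h : Ctx L N) (hab : a ≠ b) (hac : a ≠ c) (hbc : b ≠ c) {x y z : X}
    (hxy : x ≠ y) (hxz : x ≠ z) (hyz : y ≠ z) (hx : x ∈ fixSet G a b c) (hy : y ∈ fixSet G a b c)
    (hz : z ∈ fixSet G a b c) : st3 G x y z = st3 G a b c := by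
  obtain ⟨g, hga, hgb, hgc⟩ := exists_three h.three hab hac hbc hxy hxz hyz
  refine (eq_of_le_of_card_ge (fun u hu => mem_st3.2 ⟨hx u hu, hy u hu, hz u hu⟩) (le_of_eq ?_)).symm
  rw [← hga, ← hgb, ← hgc, ← map_st3, card_map_of_injective (MulAut.conj g).injective]

theorem Ctx.mem_normalizer (h : Ctx L N) (hab : a ≠ b) (hac : a ≠ c) (hbc : b ≠ c) {g : G}
    (ha : g • a ∈ fixSet G a b c) (hb : g • b ∈ fixSet G a b c) (hc : g • c ∈ fixSet G a b c) :
    g ∈ normalizer (st3 G a b c : Set G) := by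
  have e : (st3 G a b c).map (MulAut.conj g).toMonoidHom = st3 G a b c := by
    rw [map_st3]
    exact h.st3_eq hab hac hbc (fun e => hab (smul_left_cancel g e)) (fun e => hac (smul_left_cancel g e))
      (fun e => hbc (smul_left_cancel g e)) ha hb hc
  rw [mem_normalizer_iff]
  intro x
  constructor
  · intro hx
    rw [← e]
    exact ⟨x, hx, rfl⟩
  · intro hx
    rw [← e] at hx
    obtain ⟨y, hy, hyx⟩ := hx
    have hxy : y = x := by simpa using hyx
    exact hxy ▸ hy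

theorem smul_mem_fixSet {g : G} (hg : g ∈ normalizer (st3 G a b c : Set G)) {x : X}
    (hx : x ∈ fixSet G a b c) : g • x ∈ fixSet G a b c := fun u hu => by
  have := hx _ ((mem_normalizer_iff''.1 hg u).1 hu)
  rwa [mul_smul, mul_smul, inv_smul_eq_iff] at this

theorem base_mem : a ∈ fixSet G a b c ∧ b ∈ fixSet G a b c ∧ c ∈ fixSet G a b c :=
  ⟨fun _ hu => (mem_st3.1 hu).1, fun _ hu => (mem_st3.1 hu).2.1, fun _ hu => (mem_st3.1 hu).2.2⟩

/-- translations between fixed points normalize the stabilizer -/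
theorem Ctx.translation_mem (h : Ctx L N) {x y z : X} (hy : y ≠ x)
    (hxF : x ∈ fixSet G a b c) (hyF : y ∈ fixSet G a b c) (hzF : z ∈ fixSet G a b c) {v : G}
    (hv : v ∈ N x) (hvz : v • y = z) : v ∈ centralizer (st3 G a b c : Set G) := by
  refine mem_centralizer_iff.2 fun u hu => ?_
  exact h.comm_of_fixed hy (hxF u hu) (hyF u hu) hv (by rw [hvz, hzF u hu])

theorem Ctx.card_fix (h : Ctx L N) (hab : a ≠ b) :
    Nat.card ↥(fixSet G a b c) = Nat.card ↥(N a ⊓ centralizer (st3 G a b c : Set G)) + 1 := by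
  classical
  haveI : Fintype X := Fintype.ofFinite X
  obtain ⟨haF, hbF, -⟩ := base_mem (G := G) (a := a) (b := b) (c := c)
  have he : Nat.card ↥(N a ⊓ centralizer (st3 G a b c : Set G)) =
      Nat.card {x : ↥(fixSet G a b c) // x ≠ ⟨a, haF⟩} := by
    refine Nat.card_eq_of_bijective (fun v => ⟨⟨(v : G) • b, fun u hu => ?_⟩, fun e => ?_⟩) ⟨?_, ?_⟩
    · rw [← mul_smul, mem_centralizer_iff.1 (mem_inf.1 v.2).2 u hu, mul_smul, hbF u hu]
    · exact h.smul_ne (mem_inf.1 v.2).1 hab.symm (congrArg Subtype.val e)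
    · intro v w e
      exact Subtype.ext (h.eq_of_smul hab.symm (mem_inf.1 v.2).1 (mem_inf.1 w.2).1
        (congrArg (fun t : {x : ↥(fixSet G a b c) // x ≠ ⟨a, haF⟩} => (t.1 : X)) e))
    · rintro ⟨⟨z, hz⟩, hza⟩
      obtain ⟨v, hv, hvz⟩ := h.exists_translation (c := z) hab.symm (fun e => hza (Subtype.ext e))
      exact ⟨⟨v, mem_inf.2 ⟨hv, h.translation_mem hab.symm haF hbF hz hv hvz⟩⟩,
        Subtype.ext (Subtype.ext hvz)⟩
  rw [he, Nat.card_eq_fintype_card, Nat.card_eq_fintype_card, Fintype.card_subtype_compl,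
    Fintype.card_subtype_eq]
  have : 0 < Fintype.card ↥(fixSet G a b c) := Fintype.card_pos_iff.2 ⟨⟨a, haF⟩⟩
  omega

/-- the two orbits -/
theorem Ctx.two_orbits (h : Ctx L N) (hab : a ≠ b) (hac : a ≠ c) (hbc : b ≠ c) {x y : X}
    (hxa : a ≠ x) (hxb : b ≠ x) (hya : a ≠ y) (hyb : b ≠ y)
    (hx : x ∉ orbit ↥(L ⊓ stabilizer G a ⊓ stabilizer G b) c)
    (hy : y ∉ orbit ↥(L ⊓ stabilizer G a ⊓ stabilizer G b) c) :
    y ∈ orbit ↥(L ⊓ stabilizer G a ⊓ stabilizer G b) x := by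
  classical
  haveI : Fintype X := Fintype.ofFinite X
  set K := L ⊓ stabilizer G a ⊓ stabilizer G b with hK
  by_contra hne
  have hfix : ∀ (k : ↥K) (w : X), w = a ∨ w = b → k • w = w := by
    rintro k w (rfl | rfl)
    · exact (mem_inf.1 (mem_inf.1 k.2).1).2
    · exact (mem_inf.1 k.2).2
  have hsub : ∀ w : X, a ≠ w → b ≠ w → ∀ z ∈ orbit (↥K) w, z ≠ a ∧ z ≠ b := by
    rintro w hwa hwb z ⟨k, rfl⟩
    exact ⟨fun e => hwa (smul_left_cancel k ((hfix k a (Or.inl rfl)).trans e.symm)),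
      fun e => hwb (smul_left_cancel k ((hfix k b (Or.inr rfl)).trans e.symm))⟩
  have d1 : Disjoint (orbit (↥K) c) (orbit (↥K) x) := Set.disjoint_left.2 fun z hz hz' =>
    hx ((orbit_eq_iff.2 hz) ▸ (orbit_eq_iff.2 hz').symm ▸ mem_orbit_self x)
  have d2 : Disjoint (orbit (↥K) c) (orbit (↥K) y) := Set.disjoint_left.2 fun z hz hz' =>
    hy ((orbit_eq_iff.2 hz) ▸ (orbit_eq_iff.2 hz').symm ▸ mem_orbit_self y)
  have d3 : Disjoint (orbit (↥K) x) (orbit (↥K) y) := Set.disjoint_left.2 fun z hz hz' =>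
    hne ((orbit_eq_iff.2 hz) ▸ (orbit_eq_iff.2 hz').symm ▸ mem_orbit_self y)
  have hle : ((orbit (↥K) c ∪ orbit (↥K) x) ∪ orbit (↥K) y).ncard ≤ ({a, b}ᶜ : Set X).ncard := by
    refine Set.ncard_le_ncard (fun z hz => ?_) (Set.toFinite _)
    have hz' : z ≠ a ∧ z ≠ b := by
      rcases hz with (hz | hz) | hz
      · exact hsub c hac hbc z hz
      · exact hsub x hxa hxb z hz
      · exact hsub y hya hyb z hz
    simp [hz'.1, hz'.2]
  rw [Set.ncard_union_eq (Set.disjoint_union_left.2 ⟨d2, d3⟩) (Set.toFinite _) (Set.toFinite _),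
    Set.ncard_union_eq d1 (Set.toFinite _) (Set.toFinite _), Set.ncard_compl, Set.ncard_pair hab,
    ← Nat.card_coe_set_eq, ← Nat.card_coe_set_eq, ← Nat.card_coe_set_eq] at hle
  have e1 := h.orb a b c hab hac hbc
  have e2 := h.orb a b x hab hxa hxb
  have e3 := h.orb a b y hab hya hyb
  rw [← hK] at e1 e2 e3
  have h4 := Nat.le_of_dvd h.pos h.four
  omega

/-- half of the fixed points, `a` and `b` apart, form an orbit of odd length -/
theorem Ctx.fix_colours (h : Ctx L N) (hab : a ≠ b) (hac : a ≠ c) (hbc : b ≠ c) {p : ℕ} (hp : Odd p)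
    (hexp : ∀ x ∈ N a, x ^ p = 1) :
    ∃ m₀, Odd m₀ ∧ Nat.card ↥(fixSet G a b c) = 2 * m₀ + 2 := by
  classical
  set K := L ⊓ stabilizer G a ⊓ stabilizer G b with hK
  obtain ⟨haF, hbF, hcF⟩ := base_mem (G := G) (a := a) (b := b) (c := c)
  set F := fixSet G a b c with hF
  set O := orbit (↥K) c with hO
  set W : Subgroup G := K ⊓ normalizer (st3 G a b c : Set G) with hW
  -- the orbit inside the fixed points
  have hA : orbit (↥W) c = F ∩ O := by
    ext z
    constructor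
    · rintro ⟨⟨g, hg⟩, rfl⟩
      exact ⟨smul_mem_fixSet (mem_inf.1 hg).2 hcF, ⟨⟨g, (mem_inf.1 hg).1⟩, rfl⟩⟩
    · rintro ⟨hzF, ⟨g, hg⟩, rfl⟩
      refine ⟨⟨g, mem_inf.2 ⟨hg, h.mem_normalizer hab hac hbc ?_ ?_ hzF⟩⟩, rfl⟩
      · rw [(mem_inf.1 (mem_inf.1 hg).1).2]; exact haF
      · rw [(mem_inf.1 hg).2]; exact hbF
  have hWodd : Odd (Nat.card W) := (h.odd a).of_dvd_nat (card_dvd_of_le (inf_le_left.trans inf_le_left))
  have hodd : Odd (F ∩ O).ncard := by
    rw [← hA, ← MulAction.index_stabilizer]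
    exact hWodd.of_dvd_nat (Subgroup.index_dvd_card _)
  refine ⟨_, hodd, ?_⟩
  -- negation exchanges the two halves
  have hsplit : F = ({a, b} : Set X) ∪ ((F ∩ O) ∪ (F \ (O ∪ {a, b}))) := by
    ext z
    simp only [Set.mem_union, Set.mem_inter_iff, Set.mem_diff, Set.mem_insert_iff, Set.mem_singleton_iff]
    constructor
    · intro hz
      tauto
    · rintro ((rfl | rfl) | hz | hz)
      · exact haF
      · exact hbF
      · exact hz.1
      · exact hz.1
  have hOab : ∀ z ∈ O, z ≠ a ∧ z ≠ b := by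
    rintro z ⟨⟨k, hk⟩, rfl⟩
    exact ⟨fun e => hac (smul_left_cancel k ((mem_inf.1 (mem_inf.1 hk).1).2.trans e.symm)),
      fun e => hbc (smul_left_cancel k ((mem_inf.1 hk).2.trans e.symm))⟩
  choose τ hτ hτz using fun (z : X) (hz : z ≠ a) => h.exists_translation (c := z) hab.symm hz
  have hKodd : Odd (Nat.card K) := (h.odd a).of_dvd_nat (card_dvd_of_le inf_le_left)
  let ν : (z : X) → z ≠ a → X := fun z hz => (τ z hz)⁻¹ • b
  have hν : ∀ z (hz : z ≠ a), z ≠ b → z ∈ F → ν z hz ∈ F ∧ ν z hz ≠ a ∧ ν z hz ≠ b ∧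
      (ν z hz ∈ O ↔ z ∉ O) := by
    intro z hz hzb hzF
    have hv := hτ z hz
    have hvz := hτz z hz
    have hν1 : (τ z hz)⁻¹ • b ≠ a := h.smul_ne (inv_mem hv) hab.symm
    have hν2 : (τ z hz)⁻¹ • b ≠ b := fun e => hzb (by
      rw [inv_smul_eq_iff] at e
      exact hvz.symm.trans e.symm)
    refine ⟨fun u hu => ?_, hν1, hν2, ?_⟩
    · have hc' := mem_centralizer_iff.1
        (inv_mem (h.translation_mem hab.symm haF hbF hzF hv hvz)) u hu
      show u • (τ z hz)⁻¹ • b = (τ z hz)⁻¹ • b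
      rw [← mul_smul, hc', mul_smul, hbF u hu]
    -- they lie in different orbits
    have hdiff : (τ z hz)⁻¹ • b ∉ orbit (↥K) z := by
      rintro ⟨⟨k, hk⟩, e⟩
      have hka : k • a = a := (mem_inf.1 (mem_inf.1 hk).1).2
      have hkb : k • b = b := (mem_inf.1 hk).2
      set v := τ z hz with hvdef
      have e1 : k * v * k⁻¹ = v⁻¹ := h.conj_eq hab.symm hka hkb hv (inv_mem hv) (by rw [hvz]; exact e)
      have e2 : (k * k) * v * (k * k)⁻¹ = v := by
        calc (k * k) * v * (k * k)⁻¹ = k * (k * v * k⁻¹) * k⁻¹ := by group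
          _ = k * v⁻¹ * k⁻¹ := by rw [e1]
          _ = (k * v * k⁻¹)⁻¹ := by group
          _ = v := by rw [e1, inv_inv]
      have e3 : Commute (k * k) v := mul_inv_eq_iff_eq_mul.1 e2
      obtain ⟨j, hj⟩ := (hKodd.of_dvd_nat (Subgroup.orderOf_dvd_natCard K hk))
      have e4 : Commute k v := by
        have : k = (k * k) ^ (j + 1) := by
          rw [← pow_two, ← pow_mul, show 2 * (j + 1) = orderOf k + 1 by omega, pow_succ,
            pow_orderOf_eq_one, one_mul]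
        rw [this]
        exact e3.pow_left _
      have e5 : v⁻¹ = v := by rw [← e1, e4.eq, mul_inv_cancel_right]
      obtain ⟨i, hi⟩ := hp
      have e6 : v = 1 := by
        have h1 := hexp v hv
        have h2 : v * v = 1 := by nth_rewrite 1 [← e5]; exact inv_mul_cancel v
        rw [hi, pow_succ, pow_mul, pow_two, h2, one_pow, one_mul] at h1
        exact h1
      exact hzb (by rw [← hvz, e6, one_smul])
    constructor
    · intro hνO hzO
      exact hdiff ((orbit_eq_iff.2 hzO).symm ▸ hνO)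
    · intro hzO
      by_contra hνO
      exact hdiff (h.two_orbits hab hac hbc hz.symm hzb.symm hν1.symm hν2.symm hzO hνO)
  have hνν : ∀ z (hz : z ≠ a) (hz' : ν z hz ≠ a), z ∈ F → ν (ν z hz) hz' = z := by
    intro z hz hz' _
    have e : τ (ν z hz) hz' = (τ z hz)⁻¹ :=
      h.eq_of_smul hab.symm (hτ _ _) (inv_mem (hτ z hz)) (hτz _ hz')
    show (τ (ν z hz) hz')⁻¹ • b = z
    rw [e, inv_inv, hτz]
  have hcard : (F ∩ O).ncard = (F \ (O ∪ {a, b})).ncard := by
    refine Set.ncard_congr (fun z hz => ν z (hOab z hz.2).1) ?_ ?_ ?_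
    · intro z hz
      obtain ⟨h1, h2, h3, h4⟩ := hν z (hOab z hz.2).1 (hOab z hz.2).2 hz.1
      refine ⟨h1, fun e => ?_⟩
      rcases e with e | e | e
      · exact h4.1 e hz.2
      · exact h2 e
      · exact h3 e
    · intro z w hz hw e
      have h1 := (hν z (hOab z hz.2).1 (hOab z hz.2).2 hz.1).2.1
      have h1' := (hν w (hOab w hw.2).1 (hOab w hw.2).2 hw.1).2.1
      rw [← hνν z _ h1 hz.1, ← hνν w _ h1' hw.1]
      simp only [e]
    · intro w hw
      have hwa : w ≠ a := fun e => hw.2 (Or.inr (Or.inl e))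
      have hwb : w ≠ b := fun e => hw.2 (Or.inr (Or.inr e))
      obtain ⟨h1, h2, h3, h4⟩ := hν w hwa hwb hw.1
      refine ⟨ν w hwa, ⟨h1, h4.2 fun e => hw.2 (Or.inl e)⟩, ?_⟩
      exact hνν w hwa _ hw.1
  rw [Nat.card_coe_set_eq]
  conv_lhs => rw [hsplit]
  rw [Set.ncard_union_eq ?_ (Set.toFinite _) (Set.toFinite _), Set.ncard_pair hab,
    Set.ncard_union_eq ?_ (Set.toFinite _) (Set.toFinite _), ← hcard]
  · omega
  · exact Set.disjoint_left.2 fun z hz hz' => hz'.2 (Or.inl hz.2)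
  · refine Set.disjoint_left.2 fun z hz hz' => ?_
    rcases hz' with hz' | hz'
    · rcases hz with e | e
      · exact (hOab z hz'.2).1 e
      · exact (hOab z hz'.2).2 e
    · exact hz'.2 (Or.inr hz)

/-- the Sylow 2-subgroups are dihedral -/
theorem Ctx.dihTwo (h : Ctx L N) (hs : IsSimpleGroup L) (hna : ¬ IsMulCommutative L) :
    CfsgLib.GW.DihTwo L := by
  classical
  haveI : Fact (Nat.Prime 2) := ⟨Nat.prime_two⟩
  obtain ⟨a, b, c, hab, hac, hbc⟩ := h.exists_three_points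
  obtain ⟨haF, hbF, hcF⟩ := base_mem (G := G) (a := a) (b := b) (c := c)
  obtain ⟨p, f, hp, hp2, hf, hNc, hexp⟩ := h.kernel_pow a
  obtain ⟨m₀, hm₀, hFm⟩ := h.fix_colours hab hac hbc hp2 hexp
  have hFc := h.card_fix (c := c) hab
  obtain ⟨f₀, -, hf₀⟩ := (Nat.dvd_prime_pow hp).1
    (hNc ▸ card_dvd_of_le (inf_le_left : N a ⊓ centralizer (st3 G a b c : Set G) ≤ N a))
  have hq3 : p ^ f₀ % 4 = 3 := by obtain ⟨i, rfl⟩ := hm₀; omega
  obtain ⟨-, hf₀o⟩ := odd_exp_of_three hq3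
  set F := fixSet G a b c with hFdef
  haveI : Fintype ↥F := Fintype.ofFinite _
  -- the action of the normalizer
  let φ : ↥(normalizer (st3 G a b c : Set G)) →* Equiv.Perm ↥F :=
    MonoidHom.mk' (fun g =>
      { toFun := fun x => ⟨(g : G) • (x : X), smul_mem_fixSet g.2 x.2⟩
        invFun := fun x => ⟨(g : G)⁻¹ • (x : X), smul_mem_fixSet (inv_mem g.2) x.2⟩
        left_inv := fun x => Subtype.ext (inv_smul_smul (g : G) (x : X))
        right_inv := fun x => Subtype.ext (smul_inv_smul (g : G) (x : X)) })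
      fun g g' => Equiv.ext fun x => Subtype.ext (mul_smul (g : G) g' (x : X))
  have hval : ∀ g x, ((φ g x : ↥F) : X) = (g : G) • (x : X) := fun _ _ => rfl
  have h3 : IsMultiplyPretransitive φ.range ↥F 3 := by
    refine ⟨fun e e' => ?_⟩
    have hne : ∀ (e : Fin 3 ↪ ↥F) (i j : Fin 3), i ≠ j → (e i : X) ≠ e j := fun e i j hij he =>
      hij (e.injective (Subtype.ext he))
    obtain ⟨g₁, ha1, hb1, hc1⟩ := exists_three h.three hab hac hbc (hne e 0 1 (by decide))
      (hne e 0 2 (by decide)) (hne e 1 2 (by decide))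
    obtain ⟨g₂, ha2, hb2, hc2⟩ := exists_three h.three hab hac hbc (hne e' 0 1 (by decide))
      (hne e' 0 2 (by decide)) (hne e' 1 2 (by decide))
    have hn1 := h.mem_normalizer hab hac hbc (ha1 ▸ (e 0).2) (hb1 ▸ (e 1).2) (hc1 ▸ (e 2).2)
    have hn2 := h.mem_normalizer hab hac hbc (ha2 ▸ (e' 0).2) (hb2 ▸ (e' 1).2) (hc2 ▸ (e' 2).2)
    refine ⟨⟨φ ⟨g₂ * g₁⁻¹, mul_mem hn2 (inv_mem hn1)⟩, _, rfl⟩, ?_⟩
    refine DFunLike.ext _ _ fun i => Subtype.ext ?_
    show ((φ ⟨g₂ * g₁⁻¹, _⟩ (e i) : ↥F) : X) = _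
    rw [hval, Subtype.coe_mk, mul_smul]
    fin_cases i
    · show g₂ • g₁⁻¹ • (e 0 : X) = e' 0
      rw [← ha1, inv_smul_smul, ha2]
    · show g₂ • g₁⁻¹ • (e 1 : X) = e' 1
      rw [← hb1, inv_smul_smul, hb2]
    · show g₂ • g₁⁻¹ • (e 2 : X) = e' 2
      rw [← hc1, inv_smul_smul, hc2]
  have hsharp : ∀ x : Fin 3 ↪ ↥F, stabilizer φ.range x = ⊥ := by
    intro e
    rw [eq_bot_iff]
    rintro ⟨_, g, rfl⟩ hg
    have hg' : ∀ i, (g : G) • (e i : X) = e i := fun i =>
      congrArg Subtype.val (DFunLike.congr_fun hg i)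
    have hne : ∀ (i j : Fin 3), i ≠ j → (e i : X) ≠ e j := fun i j hij he =>
      hij (e.injective (Subtype.ext he))
    have hgu : (g : G) ∈ st3 G a b c := by
      exact (h.st3_eq hab hac hbc (hne 0 1 (by decide)) (hne 0 2 (by decide)) (hne 1 2 (by decide))
        (e 0).2 (e 1).2 (e 2).2).le (mem_st3.2 ⟨hg' 0, hg' 1, hg' 2⟩)
    exact mem_bot.2 (Subtype.ext (Equiv.ext fun x => Subtype.ext (x.2 _ hgu)))
  obtain ⟨K, iK, iKf, hK, ⟨e⟩⟩ := Cfsg.Agent.S0730.result hp (fun e2 => by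
      rw [e2] at hp2; exact absurd hp2 (by decide)) hf₀o
    (by rw [← Nat.card_eq_fintype_card, hFc, hf₀]) φ.range h3 hsharp
  have hdih : CfsgLib.GW.DihTwo φ.range :=
    dihTwo_congr (X := GL (Fin 2) K ⧸ center (GL (Fin 2) K)) e.symm (dihTwo_pgl (F := K) (by rw [hK]; exact hq3))
  -- a Sylow 2-subgroup of `L` in the normalizer
  obtain ⟨v, r, hr, hpv⟩ := CfsgLib.Invol.exists_two_pow_mul_odd (a := p + 1) (by omega)
  obtain ⟨r₁, hr₁, hn⟩ := exists_odd_factor hp2 hf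
  obtain ⟨r₂, hr₂, hn₀⟩ := exists_odd_factor hp2 hf₀o
  set W : Subgroup G := L ⊓ normalizer (st3 G a b c : Set G) with hW
  have horb : orbit (↥W) a = F := by
    ext z
    constructor
    · rintro ⟨g, rfl⟩
      exact smul_mem_fixSet (mem_inf.1 g.2).2 haF
    · intro hz
      obtain ⟨x, hxa, hxz, hxF⟩ : ∃ x, a ≠ x ∧ z ≠ x ∧ x ∈ F := by
        by_cases e' : z = b
        · exact ⟨c, hac, e' ▸ hbc, hcF⟩
        · exact ⟨b, hab, e', hbF⟩
      obtain ⟨t, ht, htz⟩ := h.exists_translation hxa hxz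
      exact ⟨⟨t, mem_inf.2 ⟨h.mem_L ht, centralizer_le_normalizer _
        (h.translation_mem hxa hxF haF hz ht htz)⟩⟩, htz⟩
  have hW2 : 2 ^ v ∣ Nat.card W := by
    refine Dvd.dvd.trans ?_ (Subgroup.index_dvd_card (stabilizer (↥W) a))
    rw [MulAction.index_stabilizer, horb, ← Nat.card_coe_set_eq, hFc, hf₀, hn₀, hpv, mul_assoc]
    exact dvd_mul_right _ _
  obtain ⟨T, hT⟩ := Sylow.exists_subgroup_card_pow_prime 2 hW2
  set T' : Subgroup L := (T.map W.subtype).subgroupOf L with hT'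
  have hT'L : T.map W.subtype ≤ L := fun x hx => by
    obtain ⟨y, -, rfl⟩ := hx
    exact (mem_inf.1 y.2).1
  have hT'c : Nat.card T' = 2 ^ v := by
    rw [hT', Nat.card_congr (subgroupOfEquivOfLe hT'L).toEquiv,
      card_map_of_injective (subtype_injective _), hT]
  have hLc : Nat.card L = 2 ^ v * (r * r₁ * Nat.card ↥(L ⊓ stabilizer G a)) := by
    rw [h.card_L a, ← h.card_kernel a, hNc, hn, hpv]
    ring
  obtain ⟨S, hTS⟩ := (IsPGroup.of_card hT'c : IsPGroup 2 T').exists_le_sylow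
  have hSc := CfsgLib.Invol.card_sylow_of_eq S hLc ((hr.mul hr₁).mul (h.odd a))
  have hST : (S : Subgroup L) = T' := (eq_of_le_of_card_ge hTS (by rw [hT'c, hSc])).symm
  have hmem : ∀ x : ↥(S : Subgroup L), ((x : L) : G) ∈ normalizer (st3 G a b c : Set G) := fun x => by
    have hx : (x : L) ∈ T' := hST ▸ x.2
    obtain ⟨y, -, hy⟩ := hx
    rw [← Subgroup.coe_subtype, ← hy]
    exact (mem_inf.1 y.2).2
  let ψ : ↥(S : Subgroup L) →* ↥φ.range :=
    φ.rangeRestrict.comp (MonoidHom.mk' (fun x => (⟨((x : L) : G), hmem x⟩ : ↥(normalizer (st3 G a b c : Set G))))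
      fun x y => rfl)
  have hψ : Function.Injective ψ := by
    rw [injective_iff_map_eq_one]
    intro x hx
    have hxa : ((x : L) : G) • a = a := by
      have := congrArg (fun t : ↥φ.range => (((t : Equiv.Perm ↥F) ⟨a, haF⟩ : ↥F) : X)) hx
      exact this
    have h1 : orderOf (x : L) ∣ Nat.card ↥(L ⊓ stabilizer G a) := by
      have := orderOf_dvd_natCard (⟨((x : L) : G), mem_inf.2 ⟨(x : L).2, hxa⟩⟩ : ↥(L ⊓ stabilizer G a))
      rwa [Subgroup.orderOf_mk, Subgroup.orderOf_coe] at this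
    have h2 : orderOf (x : L) ∣ 2 ^ v := hSc ▸ Subgroup.orderOf_dvd_natCard _ x.2
    exact Subtype.ext (orderOf_eq_one_iff.1 (Nat.eq_one_of_dvd_coprimes
      (Nat.Coprime.pow_left v (Nat.coprime_two_left.2 (h.odd a))) h2 h1))
  have hnc := CfsgLib.RankOneInter.QuatF.not_isCyclic_sylow hna S
  obtain ⟨⟨n, hn2, ⟨eD⟩⟩, -⟩ := hdih.noncyclic (H := ψ.range) (S.2.of_surjective _ ψ.rangeRestrict_surjective)
    fun hc' => hnc ((MonoidHom.ofInjective hψ).isCyclic.2 hc')
  exact CfsgLib.GW.dihTwo_of_sylow S hn2 ((MonoidHom.ofInjective hψ).trans eD)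

end Fixed

end CfsgLib.Perm.ThreeTrans
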