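import Cfsg.Agent.Lib.Perm.ThreeTrans.Fix
import Cfsg.Agent.Lib.GW.Final
import Cfsg.Agent.Lib.CIT.TwoNilp.RankThree
import Cfsg.Agent.Lib.Spor.Mults.Stem
import Cfsg.Agent.Lib.Classical.ProjLine
import Cfsg.Agent.S0806

/-!
# Identification with `PSL(2, q)`
-/

set_option autoImplicit false
set_option linter.unusedSectionVars false

namespace CfsgLib.Perm.ThreeTrans

open MulAction Subgroup Matrix
open scoped commutatorElement

universe u v

variable {G : Type u} [Group G] [Finite G] {X : Type v} [MulAction G X] [Finite X]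
  {L : Subgroup G} {N : X → Subgroup G}

theorem Ctx.card_ge (h : Ctx L N) (a : X) :
    Nat.card X * (Nat.card (N a) * (Nat.card (N a) - 1)) ≤ 2 * Nat.card L := by
  classical
  obtain ⟨b, c, hab, hac, hbc⟩ : ∃ b c, a ≠ b ∧ a ≠ c ∧ b ≠ c := by
    haveI : Fintype X := Fintype.ofFinite X
    have h4 := Nat.le_of_dvd h.pos h.four
    rw [Nat.card_eq_fintype_card] at h4
    have hc : 1 < (Finset.univ.erase a).card := by
      rw [Finset.card_erase_of_mem (Finset.mem_univ a), Finset.card_univ]
      omega
    obtain ⟨b, hb, c, hc', hbc⟩ := Finset.one_lt_card.1 hc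
    exact ⟨b, c, (Finset.ne_of_mem_erase hb).symm, (Finset.ne_of_mem_erase hc').symm, hbc⟩
  have h1 := Nat.le_of_dvd Nat.card_pos (Ctx.orbit_dvd (L := L) a b c)
  have h2 := h.orb a b c hab hac hbc
  have h3 := h.card_kernel a
  rw [h.card_L a, h.card_stab hab.symm]
  have h5 : Nat.card (N a) - 1 ≤ 2 * Nat.card ↥(L ⊓ stabilizer G a ⊓ stabilizer G b) := by omega
  calc Nat.card X * (Nat.card (N a) * (Nat.card (N a) - 1))
      ≤ Nat.card X * (Nat.card (N a) * (2 * Nat.card ↥(L ⊓ stabilizer G a ⊓ stabilizer G b))) := by gcongr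
    _ = 2 * (Nat.card X * (Nat.card (N a) * Nat.card ↥(L ⊓ stabilizer G a ⊓ stabilizer G b))) := by ring

theorem Ctx.not_alt_seven (h : Ctx L N) (e : ↥L ≃* alternatingGroup (Fin 7)) : False := by
  classical
  obtain ⟨a, b, c, hab, hac, hbc⟩ := h.exists_three_points
  haveI : Fintype X := Fintype.ofFinite X
  have hL : Nat.card L = 2520 := by
    rw [Nat.card_congr e.toEquiv, nat_card_alternatingGroup, Nat.card_eq_fintype_card, Fintype.card_fin]
    rfl
  have hge := h.card_ge a
  have hk := h.card_kernel a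
  have hcard := h.card_L a
  have hodd := h.odd a
  have hst := h.card_stab hab.symm
  set n := Nat.card X
  set q := Nat.card (N a)
  set s := Nat.card ↥(L ⊓ stabilizer G a)
  set K := L ⊓ stabilizer G a ⊓ stabilizer G b with hK
  rw [hL] at hge hcard
  have hn : n = 8 := by
    have h8 : 8 ∣ n :=
      (Nat.Coprime.pow_left 3 (Nat.coprime_two_left.2 hodd)).dvd_of_dvd_mul_right
        (show 2 ^ 3 ∣ n * s from hcard ▸ by norm_num)
    have h20 : n < 24 := by
      by_contra hlt
      have h23 : 23 ≤ q := by omega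
      have := Nat.mul_le_mul (show 24 ≤ n by omega) (Nat.mul_le_mul h23 (show 22 ≤ q - 1 by omega))
      omega
    obtain ⟨j, hj⟩ := h8
    have hn16 : n ≠ 16 := fun e => by
      rw [e] at hcard
      omega
    omega
  have hq : q = 7 := by omega
  rw [hn] at hcard
  rw [hq] at hst
  have hKc : Nat.card K = 45 := by omega
  haveI : Fact (Nat.Prime 5) := ⟨by norm_num⟩
  obtain ⟨k, hk5⟩ := exists_prime_orderOf_dvd_card' (G := ↥K) 5 (by rw [hKc]; norm_num)
  have horb : ∀ x : X, k • x = x := by
    intro x
    by_cases hxa : x = a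
    · rw [hxa]; exact (mem_inf.1 (mem_inf.1 k.2).1).2
    by_cases hxb : x = b
    · rw [hxb]; exact (mem_inf.1 k.2).2
    have h3 := h.orb a b x hab (Ne.symm hxa) (Ne.symm hxb)
    have hle : (orbit (zpowers k) x).ncard ≤ (orbit (↥K) x).ncard :=
      Set.ncard_le_ncard (fun z hz => by obtain ⟨g, rfl⟩ := hz; exact ⟨(g : ↥K), rfl⟩) (Set.toFinite _)
    have hdvd : (orbit (zpowers k) x).ncard ∣ 5 := by
      rw [← MulAction.index_stabilizer, ← hk5, ← Nat.card_zpowers]
      exact Subgroup.index_dvd_card _
    rw [← Nat.card_coe_set_eq, ← Nat.card_coe_set_eq] at hle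
    rw [← Nat.card_coe_set_eq] at hdvd
    have h1 : Nat.card (orbit (zpowers k) x) = 1 := by
      rcases (Nat.dvd_prime Fact.out).1 hdvd with e' | e'
      · exact e'
      · change 2 * Nat.card (orbit (↥K) x) + 2 = n at h3
        omega
    have := (Nat.card_eq_one_iff_unique.1 h1).1
    exact congrArg Subtype.val (Subsingleton.elim
      (⟨k • x, ⟨k, mem_zpowers k⟩, rfl⟩ : orbit (zpowers k) x) ⟨x, mem_orbit_self x⟩)
  have hk1 : (k : G) = 1 := h.faithful.eq_of_smul_eq_smul fun x : X => (horb x).trans (one_smul G x).symm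
  rw [Subtype.ext hk1 (a2 := (1 : ↥K)), orderOf_one] at hk5
  norm_num at hk5

theorem Ctx.ident (h : Ctx L N) (hs : IsSimpleGroup L) (hna : ¬ IsMulCommutative L) :
    ∃ (F : Type) (_ : Field F) (_ : Fintype F), Fintype.card F + 1 = Nat.card X ∧
      Nonempty (↥L ≃* Matrix.ProjectiveSpecialLinearGroup (Fin 2) F) := by
  classical
  obtain ⟨a, -, -, -, -, -⟩ := h.exists_three_points
  haveI : Group.IsPerfect ↥L := by
    rw [Group.isPerfect_def]
    refine (IsSimpleGroup.eq_bot_or_eq_top_of_normal (commutator L) inferInstance).resolve_left fun e' => ?_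
    refine hna ⟨⟨fun x y => ?_⟩⟩
    have hm : ⁅x, y⁆ ∈ commutator L := Subgroup.commutator_mem_commutator (mem_top _) (mem_top _)
    rw [e', mem_bot, commutatorElement_eq_one_iff_mul_comm] at hm
    exact hm
  have hO := CfsgLib.TwoNilp.oddCore_eq_bot (G := ↥L) hna
  rcases CfsgLib.GW.IsPSLTwoOrA7.congr
      ((QuotientGroup.quotientBot (G := ↥L)).symm.trans (QuotientGroup.quotientMulEquivOfEq hO.symm))
      (CfsgLib.GW.gw_perfect ↥L (h.dihTwo hs hna)) with ⟨F, iF, iFf, hFo, hF3, ⟨e⟩⟩ | ⟨⟨e⟩⟩
  swap
  · exact (h.not_alt_seven e).elim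
  refine ⟨F, iF, iFf, ?_, ⟨e⟩⟩
  have hcard := CfsgLib.Classical.card_psl2 (F := F)
  rw [← Nat.card_congr e.toEquiv] at hcard
  have hg : Nat.gcd 2 (Fintype.card F - 1) = 2 := by
    obtain ⟨i, hi⟩ := hFo
    exact Nat.gcd_eq_left ⟨i, by omega⟩
  rw [hg] at hcard
  set r := Fintype.card F with hr
  have hge := h.card_ge a
  have hk := h.card_kernel a
  have hcL := h.card_L a
  set n := Nat.card X
  set q := Nat.card (N a) with hq
  -- the lower bound
  have hlow : q ≤ r := by
    by_contra hlt
    have h1 : r * ((r - 1) * (r + 1)) < n * (q * (q - 1)) := by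
      calc r * ((r - 1) * (r + 1)) = (r + 1) * (r * (r - 1)) := by ring
        _ < n * (q * (q - 1)) := by
          refine Nat.mul_lt_mul_of_lt_of_le (by omega) (Nat.mul_le_mul (by omega) (by omega)) ?_
          have : 0 < q := by omega
          have : 0 < q - 1 := by omega
          positivity
    omega
  -- the upper bound
  have hn4 := Nat.le_of_dvd h.pos h.four
  have hup : r ≤ q := by
    by_cases hsmall : r ∈ ({2, 3, 5, 7, 9, 11} : Finset ℕ)
    · by_contra hlt
      obtain ⟨p, f, hp, hp2, hf, hqf, -⟩ := h.kernel_pow a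
      have hqd : q ∣ Nat.card L := by
        rw [hcL]
        exact Dvd.dvd.mul_left (card_dvd_of_le (h.le a)) n
      obtain ⟨j, hj⟩ := h.four
      have hq3 : q = 3 ∨ q = 7 := by
        simp only [Finset.mem_insert, Finset.mem_singleton] at hsmall
        omega
      rcases hq3 with hq3 | hq7
      · -- four points
        have h24 : Nat.card L ≤ 24 := by
          haveI : Fintype X := Fintype.ofFinite X
          haveI := h.faithful
          have hinj : Function.Injective ((MulAction.toPermHom G X).comp L.subtype) :=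
            MulAction.toPerm_injective.comp Subtype.val_injective
          refine le_trans (Nat.card_le_card_of_injective _ hinj) (le_of_eq ?_)
          rw [Nat.card_perm, show Nat.card X = 4 by omega]
          rfl
        simp only [Finset.mem_insert, Finset.mem_singleton] at hsmall
        rcases hsmall with h' | h' | h' | h' | h' | h' <;> rw [h'] at hcard hF3 <;> norm_num at hcard hF3 <;> omega
      · rw [hq7] at hqd
        obtain ⟨i, hi⟩ := hqd
        simp only [Finset.mem_insert, Finset.mem_singleton] at hsmall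
        rcases hsmall with h' | h' | h' | h' | h' | h' <;> rw [h'] at hcard <;> norm_num at hcard <;> omega
    · set H : Subgroup (Matrix.ProjectiveSpecialLinearGroup (Fin 2) F) :=
        ((L ⊓ stabilizer G a).subgroupOf L).map e.toMonoidHom with hH
      have hHc : Nat.card H = Nat.card ↥(L ⊓ stabilizer G a) := by
        rw [hH, card_map_of_injective e.injective, Nat.card_congr (subgroupOfEquivOfLe inf_le_left).toEquiv]
      have hi : H.index = n := by
        have h1 := H.card_mul_index
        rw [← Nat.card_congr e.toEquiv, hHc, hcL, mul_comm n] at h1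
        exact Nat.eq_of_mul_eq_mul_left Nat.card_pos h1
      have hne : H ≠ ⊤ := fun e' => by
        rw [e', index_top] at hi
        omega
      have := (Cfsg.Agent.S0806.result hr.symm hsmall).1 H hne
      omega
  omega

/-- **normal simple subgroups with two colours** -/
theorem psl_of_two_colours {G : Type u} [Group G] [Finite G] {X : Type v} [Fintype X] [MulAction G X]
    [FaithfulSMul G X] (h3 : IsMultiplyPretransitive G X 3) (h4 : 4 ∣ Fintype.card X) (L : Subgroup G) [L.Normal]
    (hs : IsSimpleGroup L) (hna : ¬ IsMulCommutative L)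
    (hodd : ∀ a : X, Odd (Nat.card ↥(L ⊓ stabilizer G a)))
    (hN : ∀ a : X, ∃ N : Subgroup G, N ≤ L ⊓ stabilizer G a ∧ IsMulCommutative N ∧
      (∀ g ∈ stabilizer G a, ∀ x ∈ N, g * x * g⁻¹ ∈ N) ∧
      ∀ y z : X, y ≠ a → z ≠ a → ∃! x, x ∈ N ∧ x • y = z)
    (hk : ∀ a b c : X, a ≠ b → a ≠ c → b ≠ c →
      2 * Nat.card (orbit ↥(L ⊓ stabilizer G a ⊓ stabilizer G b) c) + 2 = Fintype.card X) :
    ∃ (F : Type) (_ : Field F) (_ : Fintype F), Fintype.card F + 1 = Fintype.card X ∧
      Nonempty (↥L ≃* Matrix.ProjectiveSpecialLinearGroup (Fin 2) F) := by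
  choose N hN using hN
  have hpos : 0 < Nat.card X := by
    rw [Nat.card_pos_iff]
    refine ⟨?_, inferInstance⟩
    by_contra hX
    rw [not_nonempty_iff] at hX
    exact hna ⟨⟨fun x y => Subtype.ext (FaithfulSMul.eq_of_smul_eq_smul fun z : X => isEmptyElim z)⟩⟩
  have h : Ctx L N :=
    { faithful := inferInstance
      three := h3
      normal := inferInstance
      four := by rwa [Nat.card_eq_fintype_card]
      pos := hpos
      le := fun a => (hN a).1
      comm := fun a => (hN a).2.1
      conj := fun a => (hN a).2.2.1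
      reg := fun a => (hN a).2.2.2
      odd := hodd
      orb := fun a b c hab hac hbc => by rw [Nat.card_eq_fintype_card (α := X)]; exact hk a b c hab hac hbc }
  obtain ⟨F, iF, iFf, hc, he⟩ := h.ident hs hna
  exact ⟨F, iF, iFf, hc.trans Nat.card_eq_fintype_card, he⟩

end CfsgLib.Perm.ThreeTrans
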