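import Cfsg.Agent.Lib.Perm.ThreeTrans.Reduce
import Cfsg.Agent.Lib.Perm.ThreeTrans.Ident
import Cfsg.Agent.Lib.Bender.Full.Solvable

/-!
# Normal subgroups of triply transitive groups of degree divisible by three

With two orbits on triples and degree divisible by four the point stabiliser has odd order, and a minimal normal
subgroup is `PSL(2, q)`.
-/

set_option autoImplicit false
set_option linter.style.haveILetI false

namespace CfsgLib.Perm.ThreeTrans

open MulAction
open scoped Pointwise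

universe u v

variable {G : Type u} [Group G] [Finite G] {X : Type v} [Fintype X] [MulAction G X] [FaithfulSMul G X]

/-- With two orbits and orbits of odd length every involution is fixed-point-free. -/
theorem odd_stabilizer (h3 : IsMultiplyPretransitive G X 3) (hdvd : 3 ∣ Fintype.card X) (hn : 3 < Fintype.card X)
    (h4 : 4 ∣ Fintype.card X) (H : Subgroup G) [H.Normal] (hH : H ≠ ⊥) (hk : numOrb X H = 2) (a : X) :
    Odd (Nat.card ↥(H ⊓ stabilizer G a)) := by
  classical
  haveI : Fact (Nat.Prime 2) := ⟨Nat.prime_two⟩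
  haveI h2 := two_trans h3 hdvd hn H hH
  rw [← Nat.not_even_iff_odd, even_iff_two_dvd]
  intro hev
  obtain ⟨⟨t, htH, hta⟩, hto⟩ := exists_prime_orderOf_dvd_card' 2 hev
  rw [← Subgroup.orderOf_coe] at hto
  dsimp only at hto
  obtain ⟨b, htb⟩ : ∃ b, t • b ≠ b := not_forall.1 fun hall => by
    have h1 : t = 1 := eq_of_smul_eq_smul (α := X) fun x => by rw [hall x, one_smul]
    rw [h1, orderOf_one] at hto
    norm_num at hto
  have htt : t • t • b = b := by rw [smul_smul, ← pow_two, ← hto, pow_orderOf_eq_one, one_smul]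
  have hba : b ≠ a := fun e => htb (by rw [e]; exact hta)
  have htba : t • b ≠ a := fun e => hba (MulAction.injective t (e.trans (show t • a = a from hta).symm))
  -- every pair is swapped fixing any further point
  have hswap : ∀ x y z : X, x ≠ y → x ≠ z → y ≠ z → ∃ h ∈ H, h • x = y ∧ h • y = x ∧ h • z = z := by
    intro x y z hxy hxz hyz
    obtain ⟨g, g0, g1, g2⟩ := exists_triple h3 (Ne.symm htb) hba htba hxy hxz hyz
    refine ⟨g * t * g⁻¹, Subgroup.Normal.conj_mem inferInstance t htH g, ?_, ?_, ?_⟩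
    · rw [← g0, mul_smul, mul_smul, inv_smul_smul, g1]
    · rw [← g1, mul_smul, mul_smul, inv_smul_smul, htt, g0]
    · rw [← g2, mul_smul, mul_smul, inv_smul_smul, show t • a = a from hta]
  set x := b
  set y := t • b
  have hxy : x ≠ y := Ne.symm htb
  set A := H ⊓ stabilizer G x ⊓ stabilizer G y
  let S : Subgroup G := H ⊓ stabilizer G ({x, y} : Set X)
  have hSmem : ∀ h : G, h ∈ S ↔ h ∈ H ∧ (h • x = x ∧ h • y = y ∨ h • x = y ∧ h • y = x) := by
    intro h
    show h ∈ H ∧ h • ({x, y} : Set X) = {x, y} ↔ _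
    rw [Set.smul_set_insert, Set.smul_set_singleton, Set.pair_eq_pair_iff]
  have hAS : A ≤ S := fun h hh => (hSmem h).2 ⟨hh.1.1, Or.inl ⟨hh.1.2, hh.2⟩⟩
  -- an orbit of the pair stabiliser is invariant under the setwise stabiliser
  have horb : ∀ z : X, x ≠ z → y ≠ z → Nat.card (orbit S z) = Nat.card (orbit A z) := by
    intro z hxz hyz
    refine Nat.card_congr (Equiv.setCongr (Set.ext fun w => ⟨?_, ?_⟩))
    · rintro ⟨⟨h, hh⟩, rfl⟩
      obtain ⟨hhH, ⟨h0, h1⟩ | ⟨h0, h1⟩⟩ := (hSmem h).1 hh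
      · exact ⟨⟨h, ⟨hhH, h0⟩, h1⟩, rfl⟩
      · obtain ⟨s, hs, s0, s1, s2⟩ := hswap x y z hxy hxz hyz
        refine ⟨⟨h * s, ⟨mul_mem hhH hs, ?_⟩, ?_⟩, ?_⟩
        · show (h * s) • x = x
          rw [mul_smul, s0, h1]
        · show (h * s) • y = y
          rw [mul_smul, s1, h0]
        · show (h * s) • z = h • z
          rw [mul_smul, s2]
    · rintro ⟨⟨h, hh⟩, rfl⟩
      exact ⟨⟨h, hAS hh⟩, rfl⟩
  obtain ⟨P⟩ : Nonempty (Sylow 2 S) := inferInstance
  have hfix : ∀ z : X, x ≠ z → y ≠ z → ∃ c ∈ orbit A z, ∀ p ∈ (P : Subgroup S), ((p : S) : G) • c = c := by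
    intro z hxz hyz
    have hm : ¬ 2 ∣ Nat.card (orbit S z) := by
      rw [horb z hxz hyz]
      intro hd
      have e : numOrb X H * Nat.card (orbit A z) + 2 = Fintype.card X := numOrb_mul h3 hdvd hn H hH hxy hxz hyz
      rw [hk] at e
      omega
    haveI : Fintype (orbit S z) := Fintype.ofFinite _
    obtain ⟨⟨c, hc⟩, hfix⟩ := P.2.nonempty_fixed_point_of_prime_not_dvd_card (orbit S z) hm
    refine ⟨c, ?_, fun p hp => congrArg Subtype.val (hfix ⟨p, hp⟩)⟩
    obtain ⟨s, rfl⟩ := hc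
    obtain ⟨hsH, ⟨h0, h1⟩ | ⟨h0, h1⟩⟩ := (hSmem s).1 s.2
    · exact ⟨⟨(s : G), ⟨hsH, h0⟩, h1⟩, rfl⟩
    · obtain ⟨w, hw, w0, w1, w2⟩ := hswap x y z hxy hxz hyz
      refine ⟨⟨(s : G) * w, ⟨mul_mem hsH hw, ?_⟩, ?_⟩, ?_⟩
      · show ((s : G) * w) • x = x
        rw [mul_smul, w0, h1]
      · show ((s : G) * w) • y = y
        rw [mul_smul, w1, h0]
      · show ((s : G) * w) • z = (s : G) • z
        rw [mul_smul, w2]
  -- two orbits
  obtain ⟨z1, hxz1, hyz1⟩ : ∃ z, x ≠ z ∧ y ≠ z := ⟨a, hba, htba⟩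
  obtain ⟨z2, hxz2, hyz2, hz2⟩ : ∃ z, x ≠ z ∧ y ≠ z ∧ z ∉ orbit A z1 := by
    by_contra hno
    push Not at hno
    have hsub : (Set.univ : Set X) ⊆ {x, y} ∪ orbit A z1 := fun z _ => by
      by_cases e1 : x = z
      · exact Or.inl (Or.inl e1.symm)
      by_cases e2 : y = z
      · exact Or.inl (Or.inr e2.symm)
      exact Or.inr (hno z e1 e2)
    have h1 := Set.ncard_le_ncard hsub
    have h2' := Set.ncard_union_le ({x, y} : Set X) (orbit A z1)
    have h3' : ({x, y} : Set X).ncard ≤ 2 := by rw [Set.ncard_pair hxy]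
    have h4' : numOrb X H * Nat.card (orbit A z1) + 2 = Fintype.card X := numOrb_mul h3 hdvd hn H hH hxy hxz1 hyz1
    rw [hk, Nat.card_coe_set_eq] at h4'
    rw [Set.ncard_univ, Nat.card_eq_fintype_card] at h1
    omega
  obtain ⟨c1, hc1, f1⟩ := hfix z1 hxz1 hyz1
  obtain ⟨c2, hc2, f2⟩ := hfix z2 hxz2 hyz2
  have hc : c1 ≠ c2 := by
    rintro rfl
    exact hz2 (by rw [← orbit_eq_iff.2 hc1]; exact orbit_eq_iff.2 hc2 ▸ mem_orbit_self z2)
  have hle : (P : Subgroup S).map S.subtype ≤ H ⊓ stabilizer G c1 ⊓ stabilizer G c2 := by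
    rintro _ ⟨p, hp, rfl⟩
    exact ⟨⟨((hSmem _).1 p.2).1, f1 p hp⟩, f2 p hp⟩
  have hS : 2 * Nat.card A = Nat.card S := by
    have e := card_orbit_mul S x
    have h1 : orbit S x = {x, y} := by
      ext w
      constructor
      · rintro ⟨⟨h, hh⟩, rfl⟩
        rcases ((hSmem h).1 hh).2 with ⟨h0, -⟩ | ⟨h0, -⟩
        · exact Or.inl h0
        · exact Or.inr h0
      · rintro (rfl | rfl)
        · exact mem_orbit_self _
        · exact ⟨⟨t, (hSmem t).2 ⟨htH, Or.inr ⟨rfl, htt⟩⟩⟩, rfl⟩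
    have h2' : S ⊓ stabilizer G x = A := by
      ext h
      constructor
      · rintro ⟨hh, hx⟩
        rcases ((hSmem h).1 hh).2 with ⟨-, h1⟩ | ⟨h0, -⟩
        · exact ⟨⟨((hSmem h).1 hh).1, hx⟩, h1⟩
        · exact absurd ((show h • x = x from hx).symm.trans h0) hxy
      · exact fun hh => ⟨hAS hh, hh.1.2⟩
    rw [h1, h2', Nat.card_coe_set_eq, Set.ncard_pair hxy] at e
    exact e
  have hcA : Nat.card ↥(H ⊓ stabilizer G c1 ⊓ stabilizer G c2) = Nat.card A := by
    have e := card_eq_pair h2 hxy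
    rw [card_eq_pair h2 hc] at e
    exact Nat.eq_of_mul_eq_mul_left (Nat.mul_pos (by omega) (by omega)) e
  have hd := Subgroup.card_dvd_of_le hle
  rw [Subgroup.card_map_of_injective S.subtype_injective, hcA] at hd
  obtain ⟨q, hq⟩ := hd
  have hidx := (P : Subgroup S).card_mul_index
  rw [← hS, hq] at hidx
  exact P.not_dvd_index ⟨q, Nat.eq_of_mul_eq_mul_left Nat.card_pos (hidx.trans (by ring))⟩

/-- The second half of Ito's theorem. -/
theorem three_trans_or_psl (h3 : IsMultiplyPretransitive G X 3) (hdvd : 3 ∣ Fintype.card X)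
    (hn : 3 < Fintype.card X) (H : Subgroup G) [H.Normal] (hH : H ≠ ⊥) (h4 : Fintype.card X % 4 ≠ 2) :
    IsMultiplyPretransitive H X 3 ∨ ∃ (N : Subgroup H) (F : Type) (_ : Field F) (_ : Fintype F),
      N.Normal ∧ Fintype.card F + 1 = Fintype.card X ∧
        Nonempty (↥N ≃* Matrix.ProjectiveSpecialLinearGroup (Fin 2) F) := by
  classical
  rcases Nat.even_or_odd (Fintype.card X) with he | ho
  swap
  · exact Or.inl (Wagner.three_transitive ho (by obtain ⟨j, hj⟩ := ho; omega) h3 H hH)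
  have h4' : 4 ∣ Fintype.card X := by obtain ⟨j, hj⟩ := he; omega
  haveI h2G : IsMultiplyPretransitive G X 2 := Groups.two_of_succ_succ (k := 1)
    (by rw [Nat.card_eq_fintype_card]; omega) h3 (by omega)
  haveI : IsPreprimitive G X := isPreprimitive_of_is_two_pretransitive inferInstance
  obtain ⟨L, ⟨hLn, hLne, hLH⟩, hmin⟩ := Set.Finite.exists_minimal
    (Set.toFinite {L : Subgroup G | L.Normal ∧ L ≠ ⊥ ∧ L ≤ H}) ⟨H, inferInstance, hH, le_rfl⟩
  haveI := hLn
  by_cases hL1 : numOrb X L ≤ 1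
  · refine Or.inl (isMultiplyPretransitive_iff.2 fun {t t'} => ?_)
    obtain ⟨g, hg⟩ := ((three_trans_iff L hn.le).2 hL1).exists_smul_eq t t'
    exact ⟨⟨g, hLH g.2⟩, hg⟩
  have hk : numOrb X L = 2 := by
    have := numOrb_le_two' h3 hdvd hn L hLne
    omega
  have hodd := odd_stabilizer h3 hdvd hn h4' L hLne hk
  haveI hLt : IsPretransitive L X := Groups.pretransitive_normal (X := X) L hLne
  have hLcard : Fintype.card X ∣ Nat.card L := by
    obtain ⟨a⟩ : Nonempty X := Fintype.card_pos_iff.1 (by omega)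
    rw [← Nat.card_eq_fintype_card, ← index_stabilizer_of_transitive L a]
    exact (stabilizer L a).index_dvd_card
  have hmin' : ∀ M : Subgroup G, M.Normal → M ≤ L → M = ⊥ ∨ M = L := fun M hM hML => by
    rcases eq_or_ne M ⊥ with h | h
    · exact Or.inl h
    · exact Or.inr (le_antisymm hML (hmin ⟨hM, h, hML.trans hLH⟩ hML))
  have hna : ¬ IsMulCommutative L := fun hc => by
    rcases Groups.burnside_minimal_normal h2G L hLne hmin' with ⟨-, ⟨p, hp, hexp⟩, -⟩ | ⟨hs, -⟩
    · haveI := Fact.mk hp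
      obtain ⟨j, hj⟩ := IsPGroup.iff_card.1 (show IsPGroup p L from fun x => ⟨1, by
        rw [pow_one]; exact Subtype.ext (hexp x x.2)⟩)
      rw [hj] at hLcard
      have e2 := (Nat.prime_dvd_prime_iff_eq Nat.prime_two hp).1
        (Nat.prime_two.dvd_of_dvd_pow ((dvd_trans (by norm_num) h4').trans hLcard))
      have e3 := (Nat.prime_dvd_prime_iff_eq Nat.prime_three hp).1
        (Nat.prime_three.dvd_of_dvd_pow (hdvd.trans hLcard))
      omega
    · haveI := hs
      letI : CommGroup L := { (inferInstance : Group L) with mul_comm := fun a b => isMulCommutative_iff.1 hc a b }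
      have hp : (Nat.card L).Prime := IsSimpleGroup.prime_card
      have e2 := (Nat.prime_dvd_prime_iff_eq Nat.prime_two hp).1 ((dvd_trans (by norm_num) h4').trans hLcard)
      have e3 := (Nat.prime_dvd_prime_iff_eq Nat.prime_three hp).1 (hdvd.trans hLcard)
      omega
  have hsimple : IsSimpleGroup L := by
    rcases Groups.burnside_minimal_normal h2G L hLne hmin' with ⟨h, -, -⟩ | ⟨h, -⟩
    · exact absurd h hna
    · exact h
  have hker : ∀ a : X, HasKernel L a := fun a => by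
    refine (socle_cases h3 hdvd hn L hLne a).resolve_right ?_
    rintro ⟨M, hM, hs, hnc, -⟩
    haveI := hs
    have hMd : Nat.card M ∣ Nat.card ↥(L ⊓ stabilizer G a) := (Subgroup.card_dvd_of_le hM).trans (dvd_of_eq
      (Nat.card_congr
        { toFun := fun x => ⟨((x : stabilizer G a) : G), x.2, x.1.2⟩
          invFun := fun x => ⟨⟨x, x.2.2⟩, x.2.1⟩
          left_inv := fun _ => rfl
          right_inv := fun _ => rfl }))
    exact hnc (isMulCommutative_iff.2 (IsSimpleGroup.comm_iff_isSolvable.2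
      (Bender.Full.solvable_of_odd ((hodd a).of_dvd_nat hMd))))
  obtain ⟨F, iF, iF', hF, ⟨e⟩⟩ := psl_of_two_colours h3 h4' L hsimple hna hodd hker fun a b c hab hac hbc => by
    have h := numOrb_mul h3 hdvd hn L hLne hab hac hbc
    rw [hk] at h
    exact h
  exact Or.inr ⟨L.subgroupOf H, F, iF, iF', inferInstance, hF, ⟨(Subgroup.subgroupOfEquivOfLe hLH).trans e⟩⟩

end CfsgLib.Perm.ThreeTrans
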