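import Cfsg.Agent.Lib.Perm.ThreeTrans.Socle

/-!
# Orbits of a normal subgroup on triples of distinct points

The number of orbits on triples times the length of an orbit of a two-point stabiliser is the degree minus two.
-/

set_option autoImplicit false
set_option linter.style.haveILetI false

namespace CfsgLib.Perm.ThreeTrans

open MulAction

universe u v

theorem card_orbit_mul {A : Type*} [Group A] {Z : Type*} [MulAction A Z] (K : Subgroup A) (z : Z) :
    Nat.card (orbit K z) * Nat.card ↥(K ⊓ stabilizer A z) = Nat.card K := by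
  rw [Nat.card_congr (orbitEquivQuotientStabilizer K z), ← Subgroup.index_eq_card,
    ← Subgroup.index_mul_card (stabilizer K z)]
  congr 1
  exact (Nat.card_congr
    { toFun := fun x => ⟨((x : K) : A), x.1.2, x.2⟩
      invFun := fun x => ⟨⟨x, x.2.1⟩, x.2.2⟩
      left_inv := fun _ => rfl
      right_inv := fun _ => rfl }).symm

variable {G : Type u} [Group G] [Finite G] {X : Type v} [Fintype X] [MulAction G X] [FaithfulSMul G X]

/-- An ordered triple of distinct points. -/
def tri {Y : Type*} (a b c : Y) (hab : a ≠ b) (hac : a ≠ c) (hbc : b ≠ c) : Fin 3 ↪ Y :=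
  ⟨![a, b, c], Groups.injective_three hab hac hbc⟩

theorem tri_eta {Y : Type*} (t : Fin 3 ↪ Y) : t = tri (t 0) (t 1) (t 2) (t.injective.ne (by decide))
    (t.injective.ne (by decide)) (t.injective.ne (by decide)) :=
  Function.Embedding.ext fun i => by fin_cases i <;> rfl

theorem smul_tri {A Y : Type*} [Group A] [MulAction A Y] (g : A) {a b c : Y} {hab : a ≠ b} {hac : a ≠ c} {hbc : b ≠ c} :
    g • tri a b c hab hac hbc = tri (g • a) (g • b) (g • c) ((MulAction.injective g).ne hab)
      ((MulAction.injective g).ne hac) ((MulAction.injective g).ne hbc) :=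
  Function.Embedding.ext fun i => by fin_cases i <;> rfl

theorem tri_inj {Y : Type*} {a b c a' b' c' : Y} {h1 : a ≠ b} {h2 : a ≠ c} {h3 : b ≠ c} {h1' : a' ≠ b'}
    {h2' : a' ≠ c'} {h3' : b' ≠ c'} (h : tri a b c h1 h2 h3 = tri a' b' c' h1' h2' h3') :
    a = a' ∧ b = b' ∧ c = c' :=
  ⟨congrArg (fun t : Fin 3 ↪ Y => t 0) h, congrArg (fun t : Fin 3 ↪ Y => t 1) h,
    congrArg (fun t : Fin 3 ↪ Y => t 2) h⟩

omit [Finite G] [Fintype X] [FaithfulSMul G X] in
theorem triple_trans (h3 : IsMultiplyPretransitive G X 3) (x y : Fin 3 ↪ X) : ∃ g : G, g • x = y :=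
  h3.exists_smul_eq x y

omit [Finite G] [FaithfulSMul G X] in
theorem card_triples : Nat.card (Fin 3 ↪ X) = Fintype.card X * (Fintype.card X - 1) * (Fintype.card X - 2) := by
  classical
  rw [Nat.card_eq_fintype_card, Fintype.card_embedding_eq, Fintype.card_fin]
  simp only [Nat.descFactorial_succ, Nat.descFactorial_zero, Nat.sub_zero, mul_one]
  ring

/-- The number of orbits of `H` on ordered triples of distinct points. -/
noncomputable abbrev numOrb (X : Type*) [MulAction G X] (H : Subgroup G) : ℕ :=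
  Nat.card (orbitRel.Quotient H (Fin 3 ↪ X))

omit [Finite G] [Fintype X] [FaithfulSMul G X] in
theorem card_eq_pair {H : Subgroup G} [Fintype X] (h2 : IsMultiplyPretransitive H X 2) {a b : X} (hab : a ≠ b) :
    Nat.card H = Fintype.card X * (Fintype.card X - 1) * Nat.card ↥(H ⊓ stabilizer G a ⊓ stabilizer G b) := by
  classical
  have h1 : orbit H a = Set.univ := by
    refine Set.eq_univ_iff_forall.2 fun x => ?_
    rcases eq_or_ne a x with rfl | hx
    · exact mem_orbit_self _
    · obtain ⟨h, hh, ha, -⟩ := exists_pair h2 hab hx.symm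
      exact ⟨⟨h, hh⟩, ha⟩
  have h2' : orbit ↥(H ⊓ stabilizer G a) b = {a}ᶜ := by
    ext x
    constructor
    · rintro ⟨h, rfl⟩ e
      exact hab ((MulAction.injective (h : G)) (h.2.2.trans (Set.mem_singleton_iff.1 e).symm))
    · intro hx
      obtain ⟨h, hh, ha, hb⟩ := exists_pair h2 hab (Ne.symm hx)
      exact ⟨⟨h, hh, ha⟩, hb⟩
  have e1 := card_orbit_mul H a
  have e2 := card_orbit_mul (H ⊓ stabilizer G a) b
  rw [h1, Nat.card_coe_set_eq, Set.ncard_univ, Nat.card_eq_fintype_card] at e1
  rw [h2', Nat.card_coe_set_eq, Set.ncard_compl, Set.ncard_singleton, Nat.card_eq_fintype_card] at e2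
  rw [mul_assoc, e2, e1]

theorem numOrb_mul (h3 : IsMultiplyPretransitive G X 3) (hdvd : 3 ∣ Fintype.card X) (hn : 3 < Fintype.card X)
    (H : Subgroup G) [H.Normal] (hH : H ≠ ⊥) {a b c : X} (hab : a ≠ b) (hac : a ≠ c) (hbc : b ≠ c) :
    numOrb X H * Nat.card (orbit ↥(H ⊓ stabilizer G a ⊓ stabilizer G b) c) + 2 = Fintype.card X := by
  have hk := card_quotient_mul (triple_trans h3) H (tri a b c hab hac hbc)
  have hL := card_orbit_mul H (tri a b c hab hac hbc)
  have hst : H ⊓ stabilizer G (tri a b c hab hac hbc) = H ⊓ stabilizer G a ⊓ stabilizer G b ⊓ stabilizer G c := by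
    ext g
    simp only [Subgroup.mem_inf, mem_stabilizer_iff, smul_tri, and_assoc]
    refine and_congr_right fun _ => ⟨fun h => tri_inj h, fun ⟨ha, hb, hc⟩ => ?_⟩
    exact Function.Embedding.ext fun i => by fin_cases i <;> assumption
  have hm := card_orbit_mul (H ⊓ stabilizer G a ⊓ stabilizer G b) c
  have hp := card_eq_pair (two_trans h3 hdvd hn H hH) hab
  rw [hst, hp, ← hm] at hL
  rw [card_triples] at hk
  have key : ∀ k L D m N : ℕ, 3 < N → 0 < D → L * D = N * (N - 1) * (m * D) → k * L = N * (N - 1) * (N - 2) →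
      k * m + 2 = N := fun k L D m N hN hD h1 h2 => by
    obtain rfl : L = N * (N - 1) * m := Nat.eq_of_mul_eq_mul_right hD (h1.trans (by ring))
    have h0 : 0 < N * (N - 1) := Nat.mul_pos (by omega) (by omega)
    have : k * m = N - 2 := Nat.eq_of_mul_eq_mul_left h0 (by rw [← h2]; ring)
    omega
  exact key _ _ _ _ _ hn Nat.card_pos hL hk

/-- An involution without fixed points of a set of size congruent to two modulo four is an odd permutation, so
some involution of a doubly transitive normal subgroup has a fixed point. -/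
theorem exists_fixed_invol (h3 : IsMultiplyPretransitive G X 3) (hdvd : 3 ∣ Fintype.card X) (hn : 3 < Fintype.card X)
    (h4 : Fintype.card X % 4 = 2) (H : Subgroup G) [H.Normal] (hH : H ≠ ⊥) :
    ∃ t ∈ H, orderOf t = 2 ∧ ∃ c : X, t • c = c := by
  classical
  by_contra hno
  push Not at hno
  let σ : G →* ℤˣ := (Equiv.Perm.sign (α := X)).comp (MulAction.toPermHom G X)
  have hne : H ⊓ σ.ker ≠ ⊥ := by
    intro h0
    have hinj : Function.Injective (σ.comp H.subtype) := by
      rw [injective_iff_map_eq_one]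
      intro x hx
      have h1 : (x : G) ∈ H ⊓ σ.ker := ⟨x.2, hx⟩
      rw [h0, Subgroup.mem_bot] at h1
      exact Subtype.ext h1
    have h2 := Nat.card_le_card_of_injective _ hinj
    obtain ⟨a, b, hab⟩ := Fintype.exists_pair_of_one_lt_card (show 1 < Fintype.card X by omega)
    rw [card_eq_pair (two_trans h3 hdvd hn H hH) hab, Nat.card_eq_fintype_card (α := ℤˣ), Fintype.card_units_int] at h2
    have h3' : 1 ≤ Nat.card ↥(H ⊓ stabilizer G a ⊓ stabilizer G b) := Nat.card_pos
    have : 6 ≤ Fintype.card X := by omega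
    have h5 := Nat.mul_le_mul (Nat.mul_le_mul this (show 5 ≤ Fintype.card X - 1 by omega)) h3'
    omega
  haveI h2G : IsMultiplyPretransitive G X 2 := Groups.two_of_succ_succ (k := 1)
    (by rw [Nat.card_eq_fintype_card]; omega) h3 (by omega)
  haveI : IsPreprimitive G X := isPreprimitive_of_is_two_pretransitive inferInstance
  haveI := Groups.pretransitive_normal (X := X) (H ⊓ σ.ker) hne
  obtain ⟨a⟩ : Nonempty X := Fintype.card_pos_iff.1 (by omega)
  have h2 : 2 ∣ Nat.card ↥(H ⊓ σ.ker) := by
    refine dvd_trans ?_ (stabilizer ↥(H ⊓ σ.ker) a).index_dvd_card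
    rw [index_stabilizer_of_transitive, Nat.card_eq_fintype_card]
    omega
  haveI : Fact (Nat.Prime 2) := ⟨Nat.prime_two⟩
  obtain ⟨⟨t, htH, hts⟩, ht⟩ := exists_prime_orderOf_dvd_card' 2 h2
  rw [← Subgroup.orderOf_coe] at ht
  have hsq : (MulAction.toPerm t : Equiv.Perm X) ^ 2 = 1 := by
    rw [show MulAction.toPerm t = MulAction.toPermHom G X t from rfl, ← map_pow, ← ht, pow_orderOf_eq_one, map_one]
  have hfix : Fintype.card (Function.fixedPoints (MulAction.toPerm t : Equiv.Perm X)) = 0 :=
    Fintype.card_eq_zero_iff.2 ⟨fun x => hno t htH ht x.1 x.2⟩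
  have hs : Equiv.Perm.sign (MulAction.toPerm t : Equiv.Perm X) = 1 := hts
  rw [Equiv.Perm.sign_of_pow_two_eq_one hsq, hfix, Nat.sub_zero,
    Odd.neg_one_pow (Nat.odd_iff.2 (show Fintype.card X / 2 % 2 = 1 by omega))] at hs
  exact absurd hs (by decide)

end CfsgLib.Perm.ThreeTrans
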