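import Cfsg.Agent.Lib.Goldschmidt.Consumers.PrimeToThree
import Cfsg.Agent.Lib.Lie.Suz.Sub.Max
import Cfsg.Agent.S1169

/-!
# Primitive simple groups of order prime to three and odd degree

Such a group is a Suzuki group on its ovoid, so it is doubly transitive.
-/

set_option autoImplicit false
set_option linter.style.haveILetI false

namespace CfsgLib.Perm.ThreeTrans

open MulAction

universe u v

theorem suzuki_two_trans {T : Type u} [Group T] [Finite T] {Y : Type v} [Fintype Y] [MulAction T Y]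
    [IsPreprimitive T Y] [IsSimpleGroup T] (hnc : ¬ IsMulCommutative T) (h3 : ¬ 3 ∣ Nat.card T)
    (hodd : Odd (Fintype.card Y)) (hY : 1 < Fintype.card Y) (b : Y) :
    ∀ y z : Y, y ≠ b → z ≠ b → ∃ t : T, t • b = b ∧ t • y = z := by
  classical
  haveI : Nontrivial Y := Fintype.one_lt_card_iff_nontrivial.1 hY
  haveI : Fact (Nat.Prime 2) := ⟨Nat.prime_two⟩
  obtain ⟨F, iF, iF', m, hm, hF, ⟨e₀⟩⟩ := Gold.FourFreeList.isoSuzuki_of_prime_to_three
    (fun S A h1 h2 h3' => Cfsg.Agent.S1169.result S A h1 h2 h3') hnc h3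
  obtain ⟨w⟩ := CfsgLib.Lie.Suz.exists_twEquiv (F := F) (m := m) hm hF
  let e : T ≃* Cfsg.Sz F m := e₀.trans w.symm
  set M := (stabilizer T b).map e.toMonoidHom with hM
  have hco : IsCoatom M := by
    rw [hM]
    exact (OrderIso.isCoatom_iff e.mapSubgroup _).2 (IsPreprimitive.isCoatom_stabilizer_of_isPreprimitive T b)
  obtain ⟨P, hP⟩ : ∃ P : Sylow 2 (Cfsg.Sz F m), (P : Subgroup (Cfsg.Sz F m)) ≤ M := by
    obtain ⟨Q⟩ : Nonempty (Sylow 2 (stabilizer T b)) := inferInstance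
    let P₀ : Subgroup (Cfsg.Sz F m) := ((Q : Subgroup (stabilizer T b)).map (stabilizer T b).subtype).map e.toMonoidHom
    have hp : IsPGroup 2 P₀ := (Q.2.map _).map _
    have hidx : ¬ 2 ∣ P₀.index := by
      show ¬ 2 ∣ (((Q : Subgroup (stabilizer T b)).map (stabilizer T b).subtype).map e.toMonoidHom).index
      rw [Subgroup.index_map_of_bijective (f := e.toMonoidHom) e.bijective, Subgroup.index_map_subtype,
        index_stabilizer_of_transitive T b, Nat.card_eq_fintype_card]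
      intro h
      rcases (Nat.Prime.dvd_mul Nat.prime_two).1 h with h | h
      · exact Q.not_dvd_index h
      · exact (Nat.not_even_iff_odd.2 hodd) (even_iff_two_dvd.2 h)
    exact ⟨hp.toSylow hidx, Subgroup.map_mono (Subgroup.map_subtype_le _)⟩
  have hMeq : M = Subgroup.normalizer ((P : Subgroup (Cfsg.Sz F m)) : Set (Cfsg.Sz F m)) := by
    rcases eq_or_lt_of_le (CfsgLib.Lie.Suz.le_normalizer_sylow hm hF P hco.1 hP) with h | h
    · exact h
    · exact absurd (hco.2 _ h) (CfsgLib.Lie.Suz.normalizer_sylow_ne_top hm hF P)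
  obtain ⟨c, hc⟩ := CfsgLib.Lie.Suz.sylow_two_conj hm hF P
  set p := c • CfsgLib.Lie.Suz.oInf F m
  have hmem : ∀ t : T, t • b = b ↔ e t • p = p := fun t => by
    rw [← CfsgLib.Lie.Suz.normalizer_conj_U hm hF c (e t), ← hc, ← hMeq, hM]
    exact ⟨fun h => ⟨t, h, rfl⟩, fun ⟨s, hs, hst⟩ => e.injective hst ▸ hs⟩
  intro y z hy hz
  obtain ⟨t1, rfl⟩ := exists_smul_eq T b y
  obtain ⟨t2, rfl⟩ := exists_smul_eq T b z
  haveI := CfsgLib.Lie.Suz.two_trans hF (m := m)
  obtain ⟨s, hs1, hs2⟩ := is_two_pretransitive_iff.1 (CfsgLib.Lie.Suz.two_trans hF (m := m))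
    (show p ≠ e t1 • p from fun h => hy ((hmem t1).2 h.symm))
    (show p ≠ e t2 • p from fun h => hz ((hmem t2).2 h.symm))
  refine ⟨e.symm s, (hmem _).2 (by rwa [e.apply_symm_apply]), ?_⟩
  have h : (t2⁻¹ * (e.symm s * t1)) • b = b := by
    rw [hmem, map_mul, map_mul, map_inv, e.apply_symm_apply, mul_smul, mul_smul, hs2, inv_smul_smul]
  rw [mul_smul, inv_smul_eq_iff, mul_smul] at h
  exact h

end CfsgLib.Perm.ThreeTrans
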