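import Cfsg.Agent.Lib.Perm.ThreeTrans.Cycles
import Cfsg.Agent.Lib.Perm.ThreeTrans.Suzuki
import Cfsg.Agent.Lib.Perm.Groups.Wagner

/-!
# At most two orbits on triples

A Sylow 3-subgroup of a two-point stabiliser meets every orbit, so its normaliser on its fixed points is a
triply transitive group with at least as many orbits, whose point stabilisers have order prime to three.
-/

set_option autoImplicit false
set_option linter.style.haveILetI false

namespace CfsgLib.Perm.ThreeTrans

open MulAction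

universe u v

variable {G : Type u} [Group G] [Finite G] {X : Type v} [Fintype X] [MulAction G X] [FaithfulSMul G X]

omit [FaithfulSMul G X] in
theorem three_trans_iff (H : Subgroup G) (hn : 3 ≤ Fintype.card X) :
    IsMultiplyPretransitive H X 3 ↔ numOrb X H ≤ 1 := by
  exact (pretransitive_iff_subsingleton_quotient _ _).trans Finite.card_le_one_iff_subsingleton.symm

theorem numOrb_le_two_coprime (h3 : IsMultiplyPretransitive G X 3) (hdvd : 3 ∣ Fintype.card X)
    (hn : 3 < Fintype.card X) (H : Subgroup G) [H.Normal] (hH : H ≠ ⊥)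
    (h3H : ∀ a : X, ¬ 3 ∣ Nat.card ↥(H ⊓ stabilizer G a)) : numOrb X H ≤ 2 := by
  classical
  rcases Nat.even_or_odd (Fintype.card X) with he | ho
  swap
  · exact ((three_trans_iff H hn.le).1 (Wagner.three_transitive ho (by obtain ⟨j, hj⟩ := ho; omega) h3 H hH)).trans
      one_le_two
  by_cases hK : ∀ a : X, HasKernel H a
  · exact numOrb_le_two h3 hdvd hn H hH hK h3H
  obtain ⟨a, ha⟩ := not_forall.1 hK
  obtain ⟨M, hM, hs, hnc, hp⟩ := (socle_cases h3 hdvd hn H hH a).resolve_left ha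
  haveI := hs
  haveI := hp
  have hM3 : ¬ 3 ∣ Nat.card M := fun h => h3H a (h.trans ((Subgroup.card_dvd_of_le hM).trans (dvd_of_eq
    (Nat.card_congr
      { toFun := fun x => ⟨((x : stabilizer G a) : G), x.2, x.1.2⟩
        invFun := fun x => ⟨⟨x, x.2.2⟩, x.2.1⟩
        left_inv := fun _ => rfl
        right_inv := fun _ => rfl }))))
  haveI : Fintype (SubMulAction.ofStabilizer G a) := Fintype.ofFinite _
  have hcard : Fintype.card (SubMulAction.ofStabilizer G a) = Fintype.card X - 1 := by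
    rw [← Nat.card_eq_fintype_card, SubMulAction.nat_card_ofStabilizer_eq, Nat.card_eq_fintype_card]
  refine ((three_trans_iff H hn.le).1 ?_).trans one_le_two
  haveI h2 := two_trans h3 hdvd hn H hH
  refine isMultiplyPretransitive_iff.2 fun {t t'} => ?_
  have hto : ∀ s : Fin 3 ↪ X, ∃ b : X, b ≠ a ∧ ∃ h ∈ H, h • s 0 = a ∧ h • s 1 = b ∧ h • s 2 ≠ a ∧ h • s 2 ≠ b := by
    intro s
    obtain ⟨b, hb⟩ := Fintype.exists_ne_of_one_lt_card (by omega) a
    obtain ⟨h, hh, h0, -⟩ := exists_pair h2 (s.injective.ne (show (0 : Fin 3) ≠ 1 by decide)) hb.symm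
    exact ⟨h • s 1, fun e => s.injective.ne (show (1 : Fin 3) ≠ 0 by decide) (MulAction.injective h (e.trans h0.symm)),
      h, hh, h0, rfl, fun e => s.injective.ne (show (2 : Fin 3) ≠ 0 by decide) (MulAction.injective h (e.trans h0.symm)),
      fun e => s.injective.ne (show (2 : Fin 3) ≠ 1 by decide) (MulAction.injective h e)⟩
  obtain ⟨b, hb, h, hh, h0, h1, h20, h21⟩ := hto t
  obtain ⟨b', hb', h', hh', h0', h1', h20', h21'⟩ := hto t'
  obtain ⟨k, hk, hka, hkb⟩ := exists_pair h2 (Ne.symm hb) (Ne.symm hb')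
  have hc1 : k • h • t 2 ≠ a := fun e => h20 (MulAction.injective k (e.trans hka.symm))
  have hc2 : k • h • t 2 ≠ b' := fun e => h21 (MulAction.injective k (e.trans hkb.symm))
  obtain ⟨m, hmb, hmc⟩ := suzuki_two_trans (T := M) (Y := SubMulAction.ofStabilizer G a) hnc hM3
    (by rw [hcard]; obtain ⟨j, hj⟩ := he; exact ⟨j - 1, by omega⟩) (by omega) ⟨b', hb'⟩
    ⟨k • h • t 2, hc1⟩ ⟨h' • t' 2, h20'⟩ (fun e => hc2 (congrArg Subtype.val e))
    (fun e => h21' (congrArg Subtype.val e))
  have hmb' : ((m : stabilizer G a) : G) • b' = b' := congrArg Subtype.val hmb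
  have hmc' : ((m : stabilizer G a) : G) • k • h • t 2 = h' • t' 2 := congrArg Subtype.val hmc
  have hma : ((m : stabilizer G a) : G) • a = a := (m : stabilizer G a).2
  refine ⟨⟨h'⁻¹ * (((m : stabilizer G a) : G) * (k * h)), mul_mem (inv_mem hh') (mul_mem (hM m.2) (mul_mem hk hh))⟩, ?_⟩
  refine Function.Embedding.ext fun i => ?_
  show (h'⁻¹ * (((m : stabilizer G a) : G) * (k * h))) • t i = t' i
  fin_cases i <;> simp only [mul_smul, inv_smul_eq_iff]
  · exact (by rw [h0, hka, hma, h0'] : ((m : stabilizer G a) : G) • k • h • t 0 = h' • t' 0)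
  · exact (by rw [h1, hkb, hmb', h1'] : ((m : stabilizer G a) : G) • k • h • t 1 = h' • t' 1)
  · exact hmc'

/-- Two Sylow subgroups of a subgroup are conjugate in it. -/
theorem sylow_conj {A : Type*} [Group A] [Finite A] {p : ℕ} [Fact p.Prime] {D P Q : Subgroup A} (hP : P ≤ D)
    (hQ : Q ≤ D) (hp : IsPGroup p P) (hq : IsPGroup p Q) (hc : Nat.card P = Nat.card Q)
    (hi : ¬ p ∣ P.relIndex D) : ∃ d ∈ D, P.map (MulAut.conj d).toMonoidHom = Q := by
  have hi' : ¬ p ∣ Q.relIndex D := by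
    have e1 := Subgroup.card_mul_index (P.subgroupOf D)
    have e2 := Subgroup.card_mul_index (Q.subgroupOf D)
    rw [Nat.card_congr (Subgroup.subgroupOfEquivOfLe hP).toEquiv] at e1
    rw [Nat.card_congr (Subgroup.subgroupOfEquivOfLe hQ).toEquiv, ← hc] at e2
    rwa [show Q.relIndex D = P.relIndex D from Nat.eq_of_mul_eq_mul_left Nat.card_pos (e2.trans e1.symm)]
  let SP : Sylow p D := (hp.of_equiv (Subgroup.subgroupOfEquivOfLe hP).symm).toSylow hi
  let SQ : Sylow p D := (hq.of_equiv (Subgroup.subgroupOfEquivOfLe hQ).symm).toSylow hi'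
  obtain ⟨d, hd⟩ := exists_smul_eq D SP SQ
  refine ⟨d, d.2, ?_⟩
  have hd' : (P.subgroupOf D).map (MulAut.conj d).toMonoidHom = Q.subgroupOf D :=
    congrArg (fun S : Sylow p D => (S : Subgroup D)) hd
  have h := congrArg (fun S : Subgroup D => S.map D.subtype) hd'
  simp only [Subgroup.map_map] at h
  rw [Subgroup.map_subgroupOf_eq_of_le hQ] at h
  rw [← h, show D.subtype.comp (MulAut.conj d).toMonoidHom = (MulAut.conj (d : A)).toMonoidHom.comp D.subtype from
    MonoidHom.ext fun x => rfl, ← Subgroup.map_map, Subgroup.map_subgroupOf_eq_of_le hP]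

/-- The first half of Ito's theorem: at most two orbits on triples. -/
theorem numOrb_le_two' (h3 : IsMultiplyPretransitive G X 3) (hdvd : 3 ∣ Fintype.card X) (hn : 3 < Fintype.card X)
    (H : Subgroup G) [H.Normal] (hH : H ≠ ⊥) : numOrb X H ≤ 2 := by
  classical
  haveI : Fact (Nat.Prime 3) := ⟨Nat.prime_three⟩
  haveI h2 := two_trans h3 hdvd hn H hH
  obtain ⟨a, b, c, hab, hac, hbc⟩ := Fintype.two_lt_card_iff.1 (show 2 < Fintype.card X by omega)
  obtain ⟨S0⟩ : Nonempty (Sylow 3 ↥(H ⊓ stabilizer G a ⊓ stabilizer G b)) := inferInstance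
  set A := H ⊓ stabilizer G a ⊓ stabilizer G b
  let R : Subgroup G := (S0 : Subgroup A).map A.subtype
  have hRA : R ≤ A := Subgroup.map_subtype_le _
  have hRp : IsPGroup 3 R := S0.2.map _
  have hRi : ¬ 3 ∣ R.relIndex A := by
    rw [Subgroup.relIndex, show R.subgroupOf A = (S0 : Subgroup A) from Subgroup.comap_map_eq_self_of_injective A.subtype_injective _]
    exact S0.not_dvd_index
  set F := fixedPoints R X with hF
  have hFmem : ∀ x, x ∈ F ↔ ∀ r ∈ R, r • x = x := fun x =>
    ⟨fun h r hr => h ⟨r, hr⟩, fun h r => h r.1 r.2⟩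
  have haF : a ∈ F := (hFmem a).2 fun r hr => (hRA hr).1.2
  have hbF : b ∈ F := (hFmem b).2 fun r hr => (hRA hr).2
  -- `R` is a Sylow subgroup of every pair stabiliser of fixed points
  have hpair : ∀ x y : X, x ∈ F → y ∈ F → x ≠ y →
      R ≤ H ⊓ stabilizer G x ⊓ stabilizer G y ∧ ¬ 3 ∣ R.relIndex (H ⊓ stabilizer G x ⊓ stabilizer G y) := by
    intro x y hx hy hxy
    have hle : R ≤ H ⊓ stabilizer G x ⊓ stabilizer G y := fun r hr =>
      ⟨⟨(hRA hr).1.1, (hFmem x).1 hx r hr⟩, (hFmem y).1 hy r hr⟩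
    refine ⟨hle, ?_⟩
    have e1 := card_eq_pair h2 hab
    rw [card_eq_pair h2 hxy] at e1
    have e2 := Nat.eq_of_mul_eq_mul_left (Nat.mul_pos (by omega) (by omega)) e1
    have f1 := Subgroup.card_mul_index (R.subgroupOf (H ⊓ stabilizer G x ⊓ stabilizer G y))
    have f2 := Subgroup.card_mul_index (R.subgroupOf A)
    rw [Nat.card_congr (Subgroup.subgroupOfEquivOfLe hle).toEquiv, e2] at f1
    rw [Nat.card_congr (Subgroup.subgroupOfEquivOfLe hRA).toEquiv] at f2
    rw [Subgroup.relIndex, Nat.eq_of_mul_eq_mul_left Nat.card_pos (f1.trans f2.symm)]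
    exact hRi
  set N := Subgroup.normalizer (R : Set G)
  -- lifting a pair map to the normaliser
  have hcorr : ∀ (g : G) (x y : X) (D : Subgroup G), D ≤ H ⊓ stabilizer G x ⊓ stabilizer G y → x ∈ F → y ∈ F →
      x ≠ y → R ≤ D → R.map (MulAut.conj g).toMonoidHom ≤ D → ∃ d ∈ D, d * g ∈ N := by
    intro g x y D hD hx hy hxy hR hRg
    obtain ⟨d, hd, hdd⟩ := sylow_conj hRg hR (hRp.map _) hRp
      (Subgroup.card_map_of_injective (MulAut.conj g).injective) (fun h => by
        have e1 := Subgroup.card_mul_index ((R.map (MulAut.conj g).toMonoidHom).subgroupOf D)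
        have e2 := Subgroup.card_mul_index (R.subgroupOf D)
        rw [Nat.card_congr (Subgroup.subgroupOfEquivOfLe hRg).toEquiv,
          Subgroup.card_map_of_injective (MulAut.conj g).injective] at e1
        rw [Nat.card_congr (Subgroup.subgroupOfEquivOfLe hR).toEquiv] at e2
        have e3 : (R.map (MulAut.conj g).toMonoidHom).relIndex D = R.relIndex D :=
          Nat.eq_of_mul_eq_mul_left Nat.card_pos (e1.trans e2.symm)
        rw [e3] at h
        exact (hpair x y hx hy hxy).2 (h.trans (Dvd.intro _ (Subgroup.relIndex_mul_relIndex R D _ hR hD))))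
    refine ⟨d, hd, Subgroup.mem_normalizer_iff.2 fun r => ?_⟩
    have e : R.map (MulAut.conj (d * g)).toMonoidHom = R := by
      conv_rhs => rw [← hdd, Subgroup.map_map]
      congr 1
      exact MonoidHom.ext fun z => by simp [mul_assoc]
    constructor
    · intro hr
      rw [← e]
      exact ⟨r, hr, rfl⟩
    · intro hr
      rw [← e] at hr
      obtain ⟨r', hr', he⟩ := hr
      exact (MulAut.conj (d * g)).injective he ▸ hr'
  let S : SubMulAction N X :=
    { carrier := F
      smul_mem' := fun g x hx => (hFmem _).2 fun r hr => by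
        have h1 : (g : G)⁻¹ * r * g ∈ R := by
          have := (Subgroup.mem_normalizer_iff.1 (inv_mem g.2) r).1 hr
          simpa using this
        calc r • (g : G) • x = (g : G) • ((g : G)⁻¹ * r * g) • x := by simp only [mul_smul, smul_inv_smul]
          _ = (g : G) • x := by rw [(hFmem x).1 hx _ h1] }
  let ρ := MulAction.toPermHom N S
  let H' : Subgroup ρ.range := (H.subgroupOf N).map ρ.rangeRestrict
  haveI : H'.Normal := Subgroup.Normal.map inferInstance _ (MonoidHom.rangeRestrict_surjective ρ)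
  haveI : Fintype S := Fintype.ofFinite _
  have hS : Fintype.card S = Nat.card F := by rw [← Nat.card_eq_fintype_card]; rfl
  have hmod : Fintype.card S % 3 = 0 := by
    have h := hRp.card_modEq_card_fixedPoints X
    rw [Nat.card_eq_fintype_card (α := X), ← hF, ← hS, Nat.ModEq] at h
    omega
  have h3' : IsMultiplyPretransitive ρ.range S 3 := isMultiplyPretransitive_iff.2 fun {t t'} => by
    have hne : ∀ (s : Fin 3 ↪ S) (i j : Fin 3), i ≠ j → ((s i : S) : X) ≠ s j := fun s i j hij e =>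
      s.injective.ne hij (Subtype.ext e)
    obtain ⟨g, g0, g1, g2⟩ := exists_triple h3 (hne t 0 1 (by decide)) (hne t 0 2 (by decide))
      (hne t 1 2 (by decide)) (hne t' 0 1 (by decide)) (hne t' 0 2 (by decide)) (hne t' 1 2 (by decide))
    obtain ⟨d, ⟨⟨⟨-, d0⟩, d1⟩, d2⟩, hd⟩ := hcorr g (t' 0) (t' 1)
      (H ⊓ stabilizer G ((t' 0 : S) : X) ⊓ stabilizer G ((t' 1 : S) : X) ⊓ stabilizer G ((t' 2 : S) : X))
      inf_le_left (t' 0).2 (t' 1).2 (hne t' 0 1 (by decide))
      (le_inf (hpair _ _ (t' 0).2 (t' 1).2 (hne t' 0 1 (by decide))).1 fun r hr => (hFmem _).1 (t' 2).2 r hr)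
      (by
        rintro _ ⟨r, hr, rfl⟩
        have hf : ∀ i : Fin 3, g • ((t i : S) : X) = t' i → (g * r * g⁻¹) • ((t' i : S) : X) = t' i := fun i hi => by
          rw [← hi, mul_smul, mul_smul, inv_smul_smul, (hFmem _).1 (t i).2 r hr]
        exact ⟨⟨⟨Subgroup.Normal.conj_mem inferInstance r (hRA hr).1.1 g, hf 0 g0⟩, hf 1 g1⟩, hf 2 g2⟩)
    refine ⟨ρ.rangeRestrict ⟨d * g, hd⟩, Function.Embedding.ext fun i => Subtype.ext ?_⟩
    show (d * g) • ((t i : S) : X) = t' i
    fin_cases i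
    · exact (mul_smul _ _ _).trans ((congrArg _ g0).trans d0)
    · exact (mul_smul _ _ _).trans ((congrArg _ g1).trans d1)
    · exact (mul_smul _ _ _).trans ((congrArg _ g2).trans d2)
  have h2' : IsMultiplyPretransitive H' S 2 := is_two_pretransitive_iff.2 fun {x y x' y'} hxy hxy' => by
    have hne : (x' : X) ≠ y' := fun e => hxy' (Subtype.ext e)
    obtain ⟨h, hh, g0, g1⟩ := exists_pair h2 (fun e => hxy (Subtype.ext e) : (x : X) ≠ y) hne
    obtain ⟨d, ⟨⟨hdH, d0⟩, d1⟩, hd⟩ := hcorr h x' y' (H ⊓ stabilizer G (x' : X) ⊓ stabilizer G (y' : X))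
      le_rfl x'.2 y'.2 hne (hpair _ _ x'.2 y'.2 hne).1 (by
        rintro _ ⟨r, hr, rfl⟩
        have hf : ∀ z z' : X, z ∈ F → h • z = z' → (h * r * h⁻¹) • z' = z' := fun z z' hz hi => by
          rw [← hi, mul_smul, mul_smul, inv_smul_smul, (hFmem _).1 hz r hr]
        exact ⟨⟨H.mul_mem (H.mul_mem hh (hRA hr).1.1) (H.inv_mem hh), hf _ _ x.2 g0⟩, hf _ _ y.2 g1⟩)
    refine ⟨⟨_, ⟨⟨d * h, hd⟩, mul_mem hdH hh, rfl⟩⟩, Subtype.ext ?_, Subtype.ext ?_⟩
    · exact (mul_smul _ _ _).trans ((congrArg _ g0).trans d0)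
    · exact (mul_smul _ _ _).trans ((congrArg _ g1).trans d1)
  -- every orbit is represented among the fixed points
  let q : orbitRel.Quotient H' (Fin 3 ↪ S) → orbitRel.Quotient H (Fin 3 ↪ X) :=
    Quotient.map (fun t => t.trans ⟨fun x => (x : X), Subtype.val_injective⟩) fun t t' => by
      rintro ⟨⟨_, g, hg, rfl⟩, rfl⟩
      exact ⟨⟨(g : G), hg⟩, rfl⟩
  have hqs : Function.Surjective q := by
    rintro ⟨t⟩
    obtain ⟨h, hh, h0, h1⟩ := exists_pair h2 (t.injective.ne (show (0 : Fin 3) ≠ 1 by decide)) hab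
    set z := h • t 2
    have hz : a ≠ z ∧ b ≠ z := ⟨fun e => t.injective.ne (show (2 : Fin 3) ≠ 0 by decide)
      (MulAction.injective h (e.symm.trans h0.symm)), fun e => t.injective.ne (show (2 : Fin 3) ≠ 1 by decide)
      (MulAction.injective h (e.symm.trans h1.symm))⟩
    haveI : Fintype (orbit A z) := Fintype.ofFinite _
    have hm : ¬ 3 ∣ Nat.card (orbit A z) := fun hd => by
      have e : numOrb X H * Nat.card (orbit A z) + 2 = Fintype.card X := numOrb_mul h3 hdvd hn H hH hab hz.1 hz.2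
      have := dvd_mul_of_dvd_right hd (numOrb X H)
      omega
    haveI : Fact (Nat.Prime 3) := ⟨Nat.prime_three⟩
    obtain ⟨⟨w, k, rfl⟩, hw⟩ := S0.2.nonempty_fixed_point_of_prime_not_dvd_card (orbit A z) hm
    have hwF : (k : G) • z ∈ F := (hFmem _).2 fun r hr => by
      obtain ⟨r', hr', rfl⟩ := hr
      exact congrArg Subtype.val (hw ⟨r', hr'⟩)
    have hka : (k : G) • a = a := k.2.1.2
    have hkb : (k : G) • b = b := k.2.2
    refine ⟨Quotient.mk _ (tri (⟨a, haF⟩ : S) ⟨b, hbF⟩ ⟨(k : G) • z, hwF⟩ (fun e => hab (congrArg Subtype.val e))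
      (fun e => hz.1 (MulAction.injective (k : G) (hka.trans (congrArg Subtype.val e))))
      (fun e => hz.2 (MulAction.injective (k : G) (hkb.trans (congrArg Subtype.val e))))), Quotient.sound ?_⟩
    refine ⟨⟨(k : G) * h, mul_mem k.2.1.1 hh⟩, Function.Embedding.ext fun i => ?_⟩
    show ((k : G) * h) • t i = _
    rw [mul_smul]
    fin_cases i
    · exact (congrArg _ h0).trans hka
    · exact (congrArg _ h1).trans hkb
    · rfl
  refine (Nat.card_le_card_of_surjective q hqs).trans ?_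
  have hS2 : 2 ≤ Fintype.card S :=
    Fintype.one_lt_card_iff.2 ⟨⟨a, haF⟩, ⟨b, hbF⟩, fun e => hab (congrArg Subtype.val e)⟩
  rcases eq_or_lt_of_le (show 3 ≤ Fintype.card S by omega) with he | hlt
  · refine ((three_trans_iff (G := ρ.range) H' (by omega)).1 ?_).trans one_le_two
    exact isMultiplyPretransitive_iff.2 fun {t t'} => by
      obtain ⟨g, e0, e1⟩ := is_two_pretransitive_iff.1 h2' (t.injective.ne (show (0 : Fin 3) ≠ 1 by decide))
        (t'.injective.ne (show (0 : Fin 3) ≠ 1 by decide))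
      refine ⟨g, Function.Embedding.ext fun i => ?_⟩
      fin_cases i
      · exact e0
      · exact e1
      · obtain ⟨j, hj⟩ := ((Fintype.bijective_iff_injective_and_card t').2
          ⟨t'.injective, by rw [Fintype.card_fin]; exact he⟩).2 (g • t 2)
        fin_cases j
        · exact absurd (MulAction.injective g (e0.trans hj)) (t.injective.ne (show (0 : Fin 3) ≠ 2 by decide))
        · exact absurd (MulAction.injective g (e1.trans hj)) (t.injective.ne (show (1 : Fin 3) ≠ 2 by decide))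
        · exact hj.symm
  have hH' : H' ≠ ⊥ := fun h0 => by
    obtain ⟨g, e0, -⟩ := is_two_pretransitive_iff.1 h2' (show (⟨a, haF⟩ : S) ≠ ⟨b, hbF⟩ from fun e => hab (congrArg Subtype.val e))
      (show (⟨b, hbF⟩ : S) ≠ ⟨a, haF⟩ from fun e => hab (congrArg Subtype.val e).symm)
    have hg : (g : ρ.range) = 1 := by simpa [h0] using g.2
    have : (⟨a, haF⟩ : S) = ⟨b, hbF⟩ := by
      rw [← e0]
      show _ = (g : ρ.range) • (⟨a, haF⟩ : S)
      rw [hg, one_smul]
    exact hab (congrArg Subtype.val this)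
  refine numOrb_le_two_coprime (G := ρ.range) h3' (by omega) hlt H' hH' fun x hdiv => ?_
  obtain ⟨y, hy⟩ := Fintype.exists_ne_of_one_lt_card (by omega) x
  have e1 := card_orbit_mul (H' ⊓ stabilizer ρ.range x) y
  have hsub : orbit ↥(H' ⊓ stabilizer ρ.range x) y = {x}ᶜ := by
    ext z
    constructor
    · rintro ⟨g, rfl⟩ e
      exact hy ((MulAction.injective (g : ρ.range)) ((Set.mem_singleton_iff.1 e).trans g.2.2.symm))
    · intro hz
      obtain ⟨g, hgx, hgy⟩ := is_two_pretransitive_iff.1 h2' hy.symm (Ne.symm hz)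
      exact ⟨⟨g, g.2, hgx⟩, hgy⟩
  rw [hsub, Nat.card_coe_set_eq, Set.ncard_compl, Set.ncard_singleton, Nat.card_eq_fintype_card] at e1
  rw [← e1] at hdiv
  have h31 : ¬ 3 ∣ Fintype.card S - 1 := by omega
  have hdiv' : 3 ∣ Nat.card ↥(H' ⊓ stabilizer ρ.range x ⊓ stabilizer ρ.range y) :=
    ((Nat.prime_three.dvd_mul).1 hdiv).resolve_left h31
  -- an image of a group in which `R` has index prime to three
  have hxy : (x : X) ≠ y := fun e => hy (Subtype.ext e).symm
  obtain ⟨hle, hidx⟩ := hpair x y x.2 y.2 hxy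
  let K : Subgroup G := N ⊓ (H ⊓ stabilizer G (x : X) ⊓ stabilizer G (y : X))
  let f : K →* ρ.range := ρ.rangeRestrict.comp (Subgroup.inclusion (inf_le_left : K ≤ N))
  have hrange : H' ⊓ stabilizer ρ.range x ⊓ stabilizer ρ.range y ≤ f.range := by
    rintro _ ⟨⟨⟨g, hg, rfl⟩, hgx⟩, hgy⟩
    exact ⟨⟨g, g.2, ⟨hg, congrArg Subtype.val hgx⟩, congrArg Subtype.val hgy⟩, rfl⟩
  have hker : R.subgroupOf K ≤ f.ker := fun r hr => by
    refine Subtype.ext (Equiv.ext fun z => Subtype.ext ?_)
    exact (hFmem _).1 z.2 r.1 hr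
  have h1 : 3 ∣ f.ker.index := by
    rw [Subgroup.index_ker]
    exact hdiv'.trans (Subgroup.card_dvd_of_le hrange)
  have hRK : R ≤ K := le_inf Subgroup.le_normalizer hle
  exact hidx ((h1.trans (Subgroup.index_dvd_of_le hker)).trans
    (Dvd.intro _ (Subgroup.relIndex_mul_relIndex R K _ hRK inf_le_right)))

end CfsgLib.Perm.ThreeTrans
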