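import Cfsg.Agent.Lib.Perm.Groups.JordanNormal
import Cfsg.Agent.Lib.Perm.Groups.RegularNormal
import Cfsg.Agent.Lib.Perm.Groups.BurnsideMinimal

/-!
# Normal subgroups of triply transitive groups

Double transitivity, the number of orbits on triples and the minimal normal subgroups of a point stabiliser.
-/

set_option autoImplicit false
set_option linter.style.haveILetI false

namespace CfsgLib.Perm.ThreeTrans

open MulAction

universe u v

/-- The orbits of a normal subgroup of a transitive group have equal size. -/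
theorem card_quotient_mul {A : Type*} [Group A] {Y : Type*} [Finite Y] [MulAction A Y]
    (ht : ∀ x y : Y, ∃ g : A, g • x = y) (K : Subgroup A) [hK : K.Normal] (y₀ : Y) :
    Nat.card (orbitRel.Quotient K Y) * Nat.card (orbit K y₀) = Nat.card Y := by
  classical
  haveI := Fintype.ofFinite Y
  haveI := Fintype.ofFinite (orbitRel.Quotient K Y)
  have key : ∀ y : Y, Nat.card (orbit K y) = Nat.card (orbit K y₀) := by
    intro y
    obtain ⟨g, rfl⟩ := ht y₀ y
    refine (Nat.card_congr (Equiv.subtypeEquiv (MulAction.toPerm g : Equiv.Perm Y) fun x => ?_)).symm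
    constructor
    · rintro ⟨k, rfl⟩
      exact ⟨⟨g * k * g⁻¹, hK.conj_mem _ k.2 g⟩, by
        show (g * k * g⁻¹) • g • y₀ = g • (k : A) • y₀
        simp only [mul_smul, inv_smul_smul]⟩
    · rintro ⟨k, hk⟩
      refine ⟨⟨g⁻¹ * k * g, by simpa using hK.conj_mem _ k.2 g⁻¹⟩, ?_⟩
      show (g⁻¹ * k * g) • y₀ = x
      rw [mul_smul, mul_smul, show (k : A) • g • y₀ = g • x from hk, inv_smul_smul]
  rw [Nat.card_congr (selfEquivSigmaOrbits K Y), Nat.card_sigma]
  simp only [key, Finset.sum_const, Finset.card_univ, smul_eq_mul, Nat.card_eq_fintype_card]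

variable {G : Type u} [Group G] [Finite G] {X : Type v} [Fintype X] [MulAction G X] [FaithfulSMul G X]

omit [Finite G] [Fintype X] [FaithfulSMul G X] in
theorem exists_triple (h3 : IsMultiplyPretransitive G X 3) {a b c x y z : X} (hab : a ≠ b) (hac : a ≠ c)
    (hbc : b ≠ c) (hxy : x ≠ y) (hxz : x ≠ z) (hyz : y ≠ z) : ∃ g : G, g • a = x ∧ g • b = y ∧ g • c = z := by
  obtain ⟨g, hg⟩ := Groups.exists_smul_tuple h3 (Groups.injective_three hab hac hbc)
    (Groups.injective_three hxy hxz hyz)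
  exact ⟨g, hg 0, hg 1, hg 2⟩

omit [Finite G] [Fintype X] [FaithfulSMul G X] in
theorem exists_pair {H : Subgroup G} (h2 : IsMultiplyPretransitive H X 2) {a b x y : X} (hab : a ≠ b)
    (hxy : x ≠ y) : ∃ h ∈ H, h • a = x ∧ h • b = y := by
  obtain ⟨h, hh⟩ := Groups.exists_smul_tuple h2 (x := ![a, b]) (y := ![x, y])
    (by simp [Function.Injective, Fin.forall_fin_succ, hab, hab.symm])
    (by simp [Function.Injective, Fin.forall_fin_succ, hxy, hxy.symm])
  exact ⟨h, h.2, hh 0, hh 1⟩

theorem two_trans (h3 : IsMultiplyPretransitive G X 3) (hdvd : 3 ∣ Fintype.card X) (hn : 3 < Fintype.card X)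
    (H : Subgroup G) [H.Normal] (hH : H ≠ ⊥) : IsMultiplyPretransitive H X 2 := by
  rcases Groups.jordan_normal 1 G X h3 hn H inferInstance hH with h | ⟨-, hsq, hfree⟩
  · exact h
  exfalso
  haveI : IsMultiplyPretransitive G X 2 := Groups.two_of_succ_succ (k := 1)
    (by rw [Nat.card_eq_fintype_card]; omega) h3 (by omega)
  haveI : IsPreprimitive G X := isPreprimitive_of_is_two_pretransitive inferInstance
  haveI := Groups.pretransitive_normal (X := X) H hH
  obtain ⟨a⟩ : Nonempty X := Fintype.card_pos_iff.1 (by omega)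
  have hcard : Nat.card X = Nat.card H := by
    rw [← Subgroup.index_bot (G := H), ← hfree a]
    exact (index_stabilizer_of_transitive H a).symm
  have h2 : IsPGroup 2 H := fun x => ⟨1, by rw [pow_one]; exact hsq x⟩
  haveI : Fact (Nat.Prime 2) := ⟨Nat.prime_two⟩
  obtain ⟨k, hk⟩ := IsPGroup.iff_card.1 h2
  rw [← Nat.card_eq_fintype_card, hcard, hk] at hdvd
  exact absurd (Nat.Prime.dvd_of_dvd_pow Nat.prime_three hdvd) (by norm_num)

/-- An abelian subgroup of the stabiliser of `a` in `H`, normalised by the stabiliser in `G` and regular on the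
other points. -/
def HasKernel (H : Subgroup G) (a : X) : Prop :=
  ∃ N : Subgroup G, N ≤ H ⊓ stabilizer G a ∧ IsMulCommutative N ∧
    (∀ g ∈ stabilizer G a, ∀ x ∈ N, g * x * g⁻¹ ∈ N) ∧ ∀ y z : X, y ≠ a → z ≠ a → ∃! x, x ∈ N ∧ x • y = z

theorem socle_cases (h3 : IsMultiplyPretransitive G X 3) (hdvd : 3 ∣ Fintype.card X) (hn : 3 < Fintype.card X)
    (H : Subgroup G) [H.Normal] (hH : H ≠ ⊥) (a : X) :
    HasKernel H a ∨ ∃ M : Subgroup (stabilizer G a), M ≤ H.subgroupOf (stabilizer G a) ∧ IsSimpleGroup M ∧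
      ¬ IsMulCommutative M ∧ IsPreprimitive M (SubMulAction.ofStabilizer G a) := by
  classical
  haveI h2G : IsMultiplyPretransitive G X 2 := Groups.two_of_succ_succ (k := 1)
    (by rw [Nat.card_eq_fintype_card]; omega) h3 (by omega)
  haveI : IsPretransitive G X := isPretransitive_of_is_two_pretransitive
  haveI := Groups.faithful_ofStabilizer (G := G) (X := X) a
  haveI : IsMultiplyPretransitive G X (Nat.succ 2) := h3
  have hY2 : IsMultiplyPretransitive (stabilizer G a) (SubMulAction.ofStabilizer G a) 2 :=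
    SubMulAction.ofStabilizer.isMultiplyPretransitive.1 h3
  haveI := hY2
  haveI : IsPreprimitive (stabilizer G a) (SubMulAction.ofStabilizer G a) :=
    isPreprimitive_of_is_two_pretransitive hY2
  have hne : H.subgroupOf (stabilizer G a) ≠ ⊥ := by
    intro h0
    obtain ⟨b, hb⟩ := Fintype.exists_ne_of_one_lt_card (by omega) a
    obtain ⟨c, hc⟩ : ∃ c, c ∉ ({a, b} : Finset X) := by
      by_contra hc
      push Not at hc
      have h1 := Finset.card_le_card (show Finset.univ ⊆ _ from fun x _ => hc x)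
      have h2 : ({a, b} : Finset X).card ≤ 2 := Finset.card_le_two
      rw [Finset.card_univ] at h1
      omega
    simp only [Finset.mem_insert, Finset.mem_singleton, not_or] at hc
    obtain ⟨h, hh, ha, hb'⟩ := exists_pair (two_trans h3 hdvd hn H hH) hb.symm (Ne.symm hc.1)
    have h1 : (⟨h, ha⟩ : stabilizer G a) ∈ H.subgroupOf (stabilizer G a) := hh
    rw [h0, Subgroup.mem_bot, Subtype.ext_iff] at h1
    exact hc.2 (by rw [← hb', show h = 1 from h1, one_smul])
  obtain ⟨M, ⟨hMn, hMne, hMle⟩, hmin⟩ := Set.Finite.exists_minimal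
    (Set.toFinite {M : Subgroup (stabilizer G a) | M.Normal ∧ M ≠ ⊥ ∧ M ≤ H.subgroupOf (stabilizer G a)})
    ⟨_, inferInstance, hne, le_rfl⟩
  haveI := hMn
  have hmin' : ∀ L : Subgroup (stabilizer G a), L.Normal → L ≤ M → L = ⊥ ∨ L = M := fun L hL hLM => by
    rcases eq_or_ne L ⊥ with h | h
    · exact Or.inl h
    · exact Or.inr (le_antisymm hLM (hmin ⟨hL, h, hLM.trans hMle⟩ hLM))
  haveI hMt : IsPretransitive M (SubMulAction.ofStabilizer G a) :=
    Groups.pretransitive_normal (X := SubMulAction.ofStabilizer G a) M hMne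
  by_cases hc : IsMulCommutative M
  · refine Or.inl ⟨M.map (stabilizer G a).subtype, ?_, ?_, ?_, fun y z hy hz => ?_⟩
    · rintro _ ⟨x, hx, rfl⟩
      exact ⟨hMle hx, x.2⟩
    · refine isMulCommutative_iff.2 ?_
      rintro ⟨_, x, hx, rfl⟩ ⟨_, w, hw, rfl⟩
      exact Subtype.ext (congrArg (fun q : M => ((q : stabilizer G a) : G))
        (isMulCommutative_iff.1 hc ⟨x, hx⟩ ⟨w, hw⟩))
    · rintro g hg _ ⟨x, hx, rfl⟩
      exact ⟨_, hMn.conj_mem x hx ⟨g, hg⟩, rfl⟩
    obtain ⟨m, hm⟩ := hMt.exists_smul_eq ⟨y, hy⟩ ⟨z, hz⟩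
    refine ⟨((m : stabilizer G a) : G), ⟨⟨m, m.2, rfl⟩, congrArg Subtype.val hm⟩, ?_⟩
    rintro _ ⟨⟨x, hx, rfl⟩, hxy⟩
    have hfix : ∀ w : SubMulAction.ofStabilizer G a, (⟨x, hx⟩ : M) • w = m • w := by
      intro w
      obtain ⟨t, rfl⟩ := hMt.exists_smul_eq (⟨y, hy⟩ : SubMulAction.ofStabilizer G a) w
      rw [smul_smul, smul_smul, isMulCommutative_iff.1 hc _ t, isMulCommutative_iff.1 hc m t, mul_smul, mul_smul]
      exact congrArg _ ((Subtype.ext hxy : (⟨x, hx⟩ : M) • (⟨y, hy⟩ : SubMulAction.ofStabilizer G a) = ⟨z, hz⟩).trans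
        hm.symm)
    exact congrArg Subtype.val (eq_of_smul_eq_smul (α := SubMulAction.ofStabilizer G a) hfix :
      (x : stabilizer G a) = m)
  · rcases Groups.burnside_minimal_normal (X := SubMulAction.ofStabilizer G a) hY2 M hMne hmin' with h | h
    · exact absurd h.1 hc
    · exact Or.inr ⟨M, hMle, h.1, hc, h.2⟩

end CfsgLib.Perm.ThreeTrans
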